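import Cfsg.Agent.H951.K547.KleinRgd
import Cfsg.Agent.H168.K547.HexD3
import Cfsg.Agent.ClosedExc.Rows
import Cfsg.Agent.KFacts.RgdChevCoord
import Cfsg.Agent.ChevalleyStructure.TorusRange
import Cfsg.Agent.S1033
import Cfsg.Agent.S1034
import Cfsg.Agent.S1035
import Cfsg.Agent.S1055
import Cfsg.Agent.S1059
import Cfsg.Agent.S2121

/-!
# S4547: outer 2-automorphisms of `G₂(q)`, `q` odd (helper951)

* `q` a square: `extD3_of_klein` (all automorphisms, also the graph automorphisms for `q = 3 ^ (2 m)`);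
* `q` not a square, `p ≠ 3`: `|Out|` is odd;
* `q = 3 ^ (2 m + 1)`: the square of an outer 2-automorphism is inner, `d3_g2`.
-/

set_option autoImplicit false
set_option linter.unusedSectionVars false

namespace Cfsg.Agent.H951.K547

open Cfsg.Agent.H821.K547

universe u v

section

open CoxeterSystem Cfsg.Lie Cfsg.Agent.ChevalleyStructure Cfsg.Agent.ChevalleyStructure.CoxeterGeom
  Cfsg.Agent.ChevalleyStructure.Elts Cfsg.Agent.Tits.Roots Cfsg.Agent.Nodes.Reps Cfsg.Agent.Nodes.BNOf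
  Cfsg.Agent.Nodes.Bruhat Cfsg.Agent.Nodes.RGDChev Cfsg.Agent.ClosedExc Cfsg.Agent.ClosedExc.Frame
  Cfsg.Agent.ClosedExc.Chev Cfsg.Agent.ChevalleyStructure.NPerm
  Cfsg.Agent.ChevalleyStructure.CoxeterGeomTypes
open Cfsg.Agent.Nodes Cfsg.Agent.ClosedExc.Families
open Cfsg.Agent.KFacts.RgdAut Cfsg.Agent.KFacts.RgdDiag
open Cfsg.Agent.ChevalleyStructure.TorusCount Cfsg.Agent.ChevalleyStructure.TorusRange
open Cfsg.Agent.KFacts.RgdChevCoord (nc xc ch hc coords act ch_hc hc_mem chi_n)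

variable (K : Type) [Field K] [Fintype K]

theorem card_sq_units (h2 : (2 : K) ≠ 0) : Nat.card {c : Fin chevG2.rank → Kˣ // c ^ 2 = 1} = 4 := by
  classical
  have h1 : Nat.card {u : Kˣ // u ^ 2 = 1} = 2 := by
    have h3 : (1 : Kˣ) ≠ -1 := by
      intro h
      have h4 : (1 : K) = -1 := congrArg Units.val h
      apply h2
      have : (2 : K) = 1 + 1 := by norm_num
      rw [this]
      nth_rewrite 1 [h4]
      exact neg_add_cancel 1
    have h5 : ∀ u : Kˣ, u ^ 2 = 1 ↔ u = 1 ∨ u = -1 := by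
      intro u
      rw [← Units.val_inj, Units.val_pow_eq_pow_val, Units.val_one, sq_eq_one_iff]
      constructor
      · rintro (h | h)
        · exact Or.inl (Units.ext h)
        · exact Or.inr (Units.ext h)
      · rintro (rfl | rfl)
        · exact Or.inl rfl
        · exact Or.inr rfl
    have h6 : Nat.card {u : Kˣ // u ^ 2 = 1} = ({1, -1} : Finset Kˣ).card := by
      rw [Nat.card_congr (Equiv.subtypeEquivRight fun u => (h5 u).trans (by simp : u = 1 ∨ u = -1 ↔ u ∈ ({1, -1} : Finset Kˣ))),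
        Nat.card_eq_fintype_card, Fintype.card_coe]
    rw [h6, Finset.card_pair h3]
  have e : {c : Fin chevG2.rank → Kˣ // c ^ 2 = 1} ≃ (Fin chevG2.rank → {u : Kˣ // u ^ 2 = 1}) :=
    { toFun := fun c i => ⟨c.1 i, congrFun c.2 i⟩
      invFun := fun d => ⟨fun i => (d i).1, funext fun i => (d i).2⟩
      left_inv := fun c => rfl
      right_inv := fun d => rfl }
  rw [Nat.card_congr e, Nat.card_pi, Finset.prod_const, h1, Finset.card_univ, Fintype.card_fin]
  rfl

theorem card_T_sq (h2 : (2 : K) ≠ 0) : Nat.card {t : TG chevG2 K // t ^ 2 = 1} = 4 := by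
  classical
  have hrange : chevG2.diagonalSubgroup K = (torusHom chevG2 K).range :=
    diagonalSubgroup_eq_range (D := chevG2) (F := K) (fun i hi c hc => S1033.result chevG2 (by simp) i hi c hc)
      (fun i hi => simple_lt isType_G2.inList hi) (fun g hg => S1034.result chevG2 (by simp) g hg)
  have hle : chevG2.diagonalSubgroup K ≤ chevG2.group K :=
    Cfsg.Agent.ChevalleyStructure.Elts.diagonal_le_group isType_G2.inList K
  have hm : ∀ c, torusHom chevG2 K c ∈ chevG2.diagonalSubgroup K := fun c => by rw [hrange]; exact ⟨c, rfl⟩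
  let f : (Fin chevG2.rank → Kˣ) →* TG chevG2 K :=
    { toFun := fun c => ⟨⟨torusHom chevG2 K c, hle (hm c)⟩, hm c⟩
      map_one' := Subtype.ext (Subtype.ext (map_one (torusHom chevG2 K)))
      map_mul' := fun a b => Subtype.ext (Subtype.ext (map_mul (torusHom chevG2 K) a b)) }
  have hfs : Function.Surjective f := by
    intro t
    have h1 : ((t : ↥(chevG2.group K)) : GL chevG2.Idx K) ∈ chevG2.diagonalSubgroup K := t.2
    rw [hrange] at h1
    obtain ⟨c, hc⟩ := h1
    exact ⟨c, Subtype.ext (Subtype.ext hc)⟩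
  have hT : Nat.card (TG chevG2 K) = (Fintype.card K - 1) ^ chevG2.rank := by
    have h1 := S1035.result (F := K) rfl (chevG2, 1) (by simp)
    rw [one_mul] at h1
    rw [← h1]
    exact Nat.card_congr (Subgroup.subgroupOfEquivOfLe hle).toEquiv
  have hfb : Function.Bijective f := by
    apply hfs.bijective_of_nat_card_le
    rw [hT, Nat.card_pi, Finset.prod_const, Finset.card_univ, Fintype.card_fin, Nat.card_eq_fintype_card,
      Fintype.card_units]
  rw [← card_sq_units K h2]
  let E : (Fin chevG2.rank → Kˣ) ≃* TG chevG2 K := MulEquiv.ofBijective f hfb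
  refine (Nat.card_congr (Equiv.subtypeEquiv E.toEquiv fun c => ?_)).symm
  show c ^ 2 = 1 ↔ (E c) ^ 2 = 1
  rw [← map_pow, EmbeddingLike.map_eq_one_iff]

theorem hTc (s : ↥(chevG2.group K)) (hs : s ∈ TG chevG2 K) (t : ↥(chevG2.group K)) (ht : t ∈ TG chevG2 K) :
    s * t = t * s := torus_comm isType_G2 K s hs t ht

theorem tab_G2 : chevG2.reflectRoot 1 (chevG2.reflectRoot 1 (chevG2.simple 0)) = chevG2.simple 0 ∧
    chevG2.cartan 0 (chevG2.reflectRoot 1 (chevG2.simple 0)) = -1 ∧ chevG2.cartan 0 (chevG2.simple 0) = 2 ∧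
    chevG2.reflectRoot 1 (chevG2.simple 0) < chevG2.nroots ∧ chevG2.simple 0 < chevG2.nroots := by
  decide +kernel

/-- `n₁` does not centralise `T / T²` -/
theorem not_central {W : Type*} [Group W] (cs : CoxeterSystem CoxeterMatrix.G₂ W) (p : ℕ) [Fact p.Prime] [CharP K p]
    (hK : Odd (Fintype.card K)) :
    ∃ t ∈ TG chevG2 K, nc isType_G2 K 1 * t * (nc isType_G2 K 1)⁻¹ * t⁻¹ ∉ sqT (TG chevG2 K) (hTc K) := by
  classical
  obtain ⟨t1, t2, t3, t4, t5⟩ := tab_G2
  have C := coords (K := K) isType_G2 cs p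
  have R := rgd (K := K) isType_G2 cs p
  have C0 := C.coord (sr 0) (isRoot_sr cs isType_G2.isCartan 0)
  -- a nonsquare
  obtain ⟨a, ha⟩ : ∃ a : K, ¬ IsSquare a := FiniteField.exists_nonsquare (by
    intro h
    have h2 : (2 : K) = 0 := by
      have h3 : ((ringChar K : ℕ) : K) = 0 := ringChar.Nat.cast_ringChar
      rw [h] at h3
      exact_mod_cast h3
    exact two_ne K hK h2)
  have ha0 : a ≠ 0 := by
    rintro rfl
    exact ha (IsSquare.zero)
  refine ⟨hc isType_G2 0 a, hc_mem isType_G2 0 ha0, ?_⟩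
  rintro ⟨u, hu, e⟩
  have ht : hc isType_G2 0 a ∈ TG chevG2 K := hc_mem isType_G2 0 ha0
  have ht' : nc isType_G2 K 1 * hc isType_G2 0 a * (nc isType_G2 K 1)⁻¹ ∈ TG chevG2 K :=
    (Subgroup.mem_normalizer_iff.1 (R.nsys.norm 1) _).1 ht
  have h1 : nc isType_G2 K 1 * hc isType_G2 0 a * (nc isType_G2 K 1)⁻¹ = u ^ 2 * hc isType_G2 0 a := by
    rw [← e]
    group
  have hv : vec chevG2 2 (chevG2.simple 0) = (sr 0 : Fin 2 → ℤ) := vec_simple isType_G2 0
  have h2 : ch isType_G2 (sr 0 : Fin 2 → ℤ) (nc isType_G2 K 1 * hc isType_G2 0 a * (nc isType_G2 K 1)⁻¹) = a ^ (-1 : ℤ) := by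
    have h3 := chi_n isType_G2 (K := K) (i := 1) t4 ht ht'
    have h4 : chevG2.reflectRoot ((1 : Fin 2) : ℕ) (chevG2.reflectRoot 1 (chevG2.simple 0)) = chevG2.simple 0 := t1
    rw [h4, hv] at h3
    rw [h3, ch_hc isType_G2 0 ha0 t4]
    congr 1
  have h5 : ch isType_G2 (sr 0 : Fin 2 → ℤ) (hc isType_G2 0 a) = a ^ (2 : ℤ) := by
    rw [← hv, ch_hc isType_G2 0 ha0 t5]
    congr 1
  rw [h1, C0.chi_mul (pow_mem hu 2) ht, pow_two, C0.chi_mul hu hu, h5] at h2
  apply ha
  obtain ⟨c, hc'⟩ : ∃ c, c = ch isType_G2 (sr 0 : Fin 2 → ℤ) u := ⟨_, rfl⟩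
  rw [← hc'] at h2
  refine ⟨c * a ^ 2, ?_⟩
  have h6 : c * c * a ^ 2 = a⁻¹ := by
    rw [zpow_neg_one] at h2
    exact_mod_cast h2
  have h7 : c * a ^ 2 * (c * a ^ 2) = c * c * a ^ 2 * a ^ 2 := by ring
  rw [h7, h6, pow_two, inv_mul_cancel_left₀ ha0]

/-- `q ≡ 1 (mod 4)`: all automorphisms -/
theorem extD3_g2_of_mod (hK : Odd (Fintype.card K)) (hq4 : Fintype.card K % 4 = 1) : ExtD3 ↥(chevG2.group K) := by
  classical
  obtain ⟨p, hpc⟩ := CharP.exists K
  have : Fact p.Prime := ⟨CharP.char_is_prime K p⟩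
  let cs : CoxeterSystem CoxeterMatrix.G₂ CoxeterMatrix.G₂.Group := CoxeterMatrix.G₂.toCoxeterSystem
  have : Finite CoxeterMatrix.G₂.Group := finite_W isType_G2 cs
  have h3 := three_le hK
  have hsim := S1055.result (F := K) (by
    classical
    have h5 : 2 < Fintype.card K := by omega
    obtain ⟨a, ha⟩ := Finset.exists_mem_notMem_of_card_lt_card (s := ({0, 1} : Finset K)) (t := Finset.univ) (by
      rw [Finset.card_univ]
      exact lt_of_le_of_lt Finset.card_le_two h5)
    refine ⟨a, ?_, ?_⟩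
    · rintro rfl
      exact ha.2 (by simp)
    · rintro rfl
      exact ha.2 (by simp))
  have := hsim.1
  have hna : ¬ ∀ a b : ↥(chevG2.group K), a * b = b * a := fun h => hsim.2 ⟨⟨fun a b => h a b⟩⟩
  obtain ⟨χ, hχ⟩ := exists_chi_G2 cs
  have R := rgd (K := K) isType_G2 cs p
  have hT : Nat.card (TG chevG2 K) = (Fintype.card K - 1) ^ 2 := by
    have h1 := S1035.result (F := K) rfl (chevG2, 1) (by simp)
    rw [one_mul] at h1
    have h2 : Nat.card (TG chevG2 K) = Nat.card (chevG2.diagonalSubgroup K) :=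
      Nat.card_congr (Subgroup.subgroupOfEquivOfLe
        (Cfsg.Agent.ChevalleyStructure.Elts.diagonal_le_group isType_G2.inList K)).toEquiv
    rw [h2]
    exact h1
  refine extD3_of_klein (rgd (K := K) isType_G2 cs p) (center_of_simple hna) (commutator_of_simple hna) (hTc K) ?_
    card_WG2 (card_T_sq K (two_ne K hK)) χ hχ ⟨1, not_central K cs p hK⟩ fun τ =>
      Cfsg.Agent.H69.OutCount.exists_diag_conj (rgd (K := K) isType_G2 cs p) (G1_eq_top isType_G2 cs) τ
  have h1 := (NP (rgd (K := K) isType_G2 cs p) ⊤).card_mul_index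
  rw [card_NP, Subgroup.card_top, card_WG2, S1059.result (F := K) rfl, hT] at h1
  obtain ⟨q, hq⟩ : ∃ q, q = Fintype.card K := ⟨_, rfl⟩
  rw [← hq] at h1 hq4 hK h3
  obtain ⟨a, ha⟩ := two_mod_four hq4
  refine not_two_dvd (c := q ^ 6 * (2 * a + 1) * (2 * a + 1) * (q ^ 4 + q ^ 2 + 1))
    (pow_pos (by omega : 0 < q - 1) 2) (h1.trans ?_) ?_
  · obtain ⟨k, rfl⟩ : ∃ k, q = k + 1 := ⟨q - 1, by omega⟩
    have e1 : (k + 1) ^ 2 - 1 = k * (k + 2) := by
      rw [Nat.sub_eq_iff_eq_add (Nat.one_le_pow _ _ (by omega))]; ring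
    have e2 : (k + 1) ^ 6 - 1 = k * (k + 2) * ((k + 1) ^ 4 + (k + 1) ^ 2 + 1) := by
      rw [Nat.sub_eq_iff_eq_add (Nat.one_le_pow _ _ (by omega))]; ring
    have e3 : k + 2 = 2 * (2 * a + 1) := by omega
    rw [e1, e2, Nat.add_sub_cancel, e3]
    ring
  · refine Odd.mul (Odd.mul (Odd.mul hK.pow ⟨a, rfl⟩) ⟨a, rfl⟩) ?_
    exact ((hK.pow (n := 4)).add_odd (hK.pow (n := 2))).add_one

theorem extD3_g2' (hK : Odd (Fintype.card K)) : ExtD3 ↥(chevG2.group K) := by
  classical
  obtain ⟨p, hpc⟩ := CharP.exists K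
  have hp : p.Prime := CharP.char_is_prime K p
  have : Fact p.Prime := ⟨hp⟩
  obtain ⟨f, -, hf⟩ := FiniteField.card K p
  obtain ⟨n, hn⟩ : ∃ n : ℕ, n = f := ⟨_, rfl⟩
  rw [← hn] at hf
  have hn0 : n ≠ 0 := by rw [hn]; exact f.ne_zero
  have hpo : Odd p := by
    rw [hf] at hK
    exact (Nat.odd_pow_iff hn0).1 hK
  rcases Nat.even_or_odd n with hne | hno
  · exact extD3_g2_of_mod K hK (by rw [hf]; exact mod_four hpo hne)
  · have hout := S2121.result (F := K) p n hf (by rw [← hf]; exact three_le hK)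
    by_cases h3 : p = 3
    · rw [if_pos h3] at hout
      have hfin : Finite ↥(chevG2.group K) := inferInstance
      have h3' := three_le hK
      have hsim := S1055.result (F := K) (by
        classical
        have h5 : 2 < Fintype.card K := by omega
        obtain ⟨a, ha⟩ := Finset.exists_mem_notMem_of_card_lt_card (s := ({0, 1} : Finset K)) (t := Finset.univ) (by
          rw [Finset.card_univ]
          exact lt_of_le_of_lt Finset.card_le_two h5)
        refine ⟨a, ?_, ?_⟩
        · rintro rfl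
          exact ha.2 (by simp)
        · rintro rfl
          exact ha.2 (by simp))
      have := hsim.1
      have hna : ¬ ∀ a b : ↥(chevG2.group K), a * b = b * a := fun h => hsim.2 ⟨⟨fun a b => h a b⟩⟩
      intro τ h2 hni
      -- the square is inner
      have hsq : ∃ b, τ ^ 2 = MulAut.conj b := by
        rw [twoPow_iff] at h2
        obtain ⟨k, hk⟩ := h2
        have h4 : τ ^ 2 ∈ (MulAut.conj : ↥(chevG2.group K) →* MulAut ↥(chevG2.group K)).range := by
          refine mem_of_pow_odd _ (τ ^ 2) (e := n) (k := k) (fun h => ?_) ?_ ?_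
          · exact (Nat.not_even_iff_odd.2 hno) (even_iff_two_dvd.2 h)
          · rw [← pow_mul]
            have h5 := (MulAut.conj : ↥(chevG2.group K) →* MulAut ↥(chevG2.group K)).range.pow_index_mem τ
            have h6 : (MulAut.conj : ↥(chevG2.group K) →* MulAut ↥(chevG2.group K)).range.index = 2 * n := hout
            rwa [h6] at h5
          · rw [← pow_mul, mul_comm, pow_mul]
            exact pow_mem hk 2
        obtain ⟨b, hb⟩ := h4
        exact ⟨b, hb.symm⟩
      have hD3 := Cfsg.Agent.H168.K547.d3_g2 hK (MulEquiv.refl ↥(chevG2.group K))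
      refine gen_main (center_of_simple hna) (commutator_of_simple hna) τ h2 hni ⊤ (by rw [Subgroup.index_top]; decide)
        (fun x => iff_of_true (Subgroup.mem_top _) (Subgroup.mem_top _))
        (Subgroup.topEquiv (G := ↥(chevG2.group K))).toMonoidHom (Subgroup.topEquiv (G := ↥(chevG2.group K))).surjective
        τ (fun m m' e => e) (Or.inr ⟨hsq, hD3⟩)
    · rw [if_neg h3] at hout
      apply extD3_of_odd_out
      rw [hout]
      exact fun h => (Nat.not_even_iff_odd.2 hno) (even_iff_two_dvd.2 h)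

end

/-- **`G₂(q)`, `q` odd** -/
theorem extD3_g2 {S : Type u} [Group S] [Finite S] {K : Type} [Field K] [Fintype K] (hK : Odd (Fintype.card K))
    (e : S ≃* Cfsg.Lie.chevG2.group K) : ExtD3 S := extD3_congr e (extD3_g2' K hK)

end Cfsg.Agent.H951.K547
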