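import Cfsg.Agent.H951.K547.FrExc
import Cfsg.Agent.H951.K547.GTwo

/-!
# S4547: outer 2-automorphisms of the exceptional groups of Lie type of odd characteristic (helper951)

* `extD3_excChev` : `G₂, F₄, E₆, E₇, E₈`;
* `extD3_excTw` : `²E₆, ³D₄`;
* `extRow_of` : the row.
-/

set_option autoImplicit false

namespace Cfsg.Agent.H951.K547

open Cfsg Cfsg.Agent.H821.K547

universe u

variable {S : Type u} [Group S] [Finite S] {p : ℕ}

theorem odd_card {F : Type} [Field F] [Fintype F] [CharP F p] (hp : p.Prime) (hp2 : p ≠ 2) : Odd (Fintype.card F) := by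
  have : Fact p.Prime := ⟨hp⟩
  obtain ⟨n, -, hn⟩ := FiniteField.card F p
  rw [hn]
  exact (hp.odd_of_ne_two hp2).pow

/-- **`G₂(q)`, `F₄(q)`, `E₆(q)`, `E₇(q)`, `E₈(q)`, `q` odd** -/
theorem extD3_excChev (hp : p.Prime) (hp2 : p ≠ 2) (h : IsExceptionalChevChar p S) : ExtD3 S := by
  obtain ⟨F, _, _, _, ⟨-, ⟨e⟩⟩ | ⟨⟨e⟩⟩ | ⟨⟨e⟩⟩ | ⟨⟨e⟩⟩ | ⟨⟨e⟩⟩⟩ := h
  · exact extD3_g2 (odd_card hp hp2) e
  · exact extD3_f4 (odd_card hp hp2) e
  · exact extD3_e6 (odd_card hp hp2) e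
  · exact extD3_e7 (odd_card hp hp2) e
  · exact extD3_e8 (odd_card hp hp2) e

/-- **`²E₆(q)`, `³D₄(q)`, `q` odd** -/
theorem extD3_excTw (hp : p.Prime) (hp2 : p ≠ 2) (h : IsTwistedE6D4Char p S) : ExtD3 S := by
  obtain ⟨K, _, _, _, q, hq, ⟨hK, ⟨e⟩⟩ | ⟨hK, ⟨e⟩⟩⟩ := h
  · refine extD3_twE6 hq hK ?_ e
    have h1 := odd_card (F := K) hp hp2
    rw [hK] at h1
    exact (Nat.odd_pow_iff (by norm_num)).1 h1
  · refine extD3_twD4 hq hK ?_ e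
    have h1 := odd_card (F := K) hp hp2
    rw [hK] at h1
    exact (Nat.odd_pow_iff (by norm_num)).1 h1

omit [Finite S] in
theorem extRow_of (h : ExtD3 S) {τ : MulAut S} (hg : GInv3 τ) (h2 : TwoPow τ) (hni : ¬ IsInn τ) : ExtRow S τ :=
  iff_of_true hg (h τ h2 hni)

end Cfsg.Agent.H951.K547
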