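import Cfsg.Agent.H951.K547.Fr
import Cfsg.Agent.H491.Sd.FrInst
import Cfsg.Agent.H69.OutGF
import Cfsg.Agent.S1070

/-!
# S4547: outer 2-automorphisms of `F₄(q)`, `E₆(q)`, `E₇(q)`, `E₈(q)`, `²E₆(q)`, `q` odd (helper951)

* `extD3_f4`, `extD3_e6`, `extD3_e7`, `extD3_e8`, `extD3_twE6`.
-/

set_option autoImplicit false
set_option linter.unusedSectionVars false
set_option maxRecDepth 100000

namespace Cfsg.Agent.H951.K547

open CoxeterSystem Cfsg Cfsg.Lie Cfsg.Agent.ChevalleyStructure Cfsg.Agent.ChevalleyStructure.CoxeterGeom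
  Cfsg.Agent.ChevalleyStructure.Elts Cfsg.Agent.Tits.Roots Cfsg.Agent.Nodes.Reps Cfsg.Agent.Nodes.BNOf
  Cfsg.Agent.Nodes.Bruhat Cfsg.Agent.Nodes.RGDChev Cfsg.Agent.ClosedExc Cfsg.Agent.ClosedExc.Frame
  Cfsg.Agent.ClosedExc.WFr Cfsg.Agent.ClosedExc.Chev Cfsg.Agent.ChevalleyStructure.NPerm
  Cfsg.Agent.ChevalleyStructure.CoxeterGeomTypes
open Cfsg.Agent.Nodes Cfsg.Agent.ClosedExc.Families
open Cfsg.Agent.Nodes.FreeTorus (LL)
open Cfsg.Agent.KFacts.RgdAut Cfsg.Agent.KFacts.RgdDiag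
open Cfsg.Agent.H491.Sd Cfsg.Agent.H55.Sd Cfsg.Agent.H775.Sd.ChevElem Cfsg.Agent.H491.Sd.FrInst
open Cfsg.Agent.H821.K547

universe u v

/-! ### the group of permutations of a certificate -/

section cert

variable {l : ℕ} {W : Type*} [Group W] {M : CoxeterMatrix (Fin l)} (cs : CoxeterSystem M W)
  {C : Fin l → Fin l → ℤ} (h : IsCartan M C) {k N : ℕ} {c : Cert}

include h

theorem gm_sq (hA : IsTab C c.AL) (hc : Ok l k N c) : ∀ w ∈ Gm cs c, w ^ 2 = 1 := by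
  have hRel : ∀ g ∈ c.G, Rel cs h c.T (wd cs (fw g.1)) g.2 := by
    intro g hg
    refine ⟨(hc.gp g hg).1, (hc.gp g hg).2, fun a ha => ?_⟩
    rw [rep_wd cs h hA (hc.Tl _ (by rw [List.getD_eq_getElem _ _ ha]; exact List.getElem_mem _)), hc.ga g hg a ha]
  rintro _ ⟨g, hg, rfl⟩
  have h1 := (hRel g hg).mul (hRel g hg)
  rw [hc.gi g hg] at h1
  rw [pow_two]
  exact h1.unique hc.span Rel.one

theorem rk2_cert [Finite W] (hA : IsTab C c.AL) {s : ℕ} (hc : Ok l k (2 ^ s) c) (hs : 2 ≤ s)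
    (Q : Sylow 2 ↥(Subgroup.closure (Gm cs c))) : Rk 2 Q := by
  have hcard := (wframe' cs h hA hc).2.2.2
  refine sylow_rk2_of_involutions (IsPGroup.of_card hcard) ?_ Subgroup.closure_closure_coe_preimage ?_ Q
  · rw [hcard]
    calc 4 = 2 ^ 2 := by norm_num
      _ ≤ 2 ^ s := Nat.pow_le_pow_right (by norm_num) hs
  · intro g hg
    apply Subtype.ext
    exact gm_sq cs h hA hc g hg

end cert

/-! ### no diagram symmetries -/

theorem inv_step {l : ℕ} {M : CoxeterMatrix (Fin l)} {σ : Equiv.Perm (Fin l)}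
    (hσ : ∀ i j, M (σ i) (σ j) = M i j) {g g' : Fin l → ℕ} (hg : ∀ i, g (σ i) = g i)
    (h : ∀ i, g' i = ∑ j, if M i j = 2 ∨ M i j = 1 then 0 else g j) (i : Fin l) : g' (σ i) = g' i := by
  rw [h, h, ← Equiv.sum_comp σ]
  refine Finset.sum_congr rfl fun j _ => ?_
  rw [hσ, hg]

theorem sym_one {l : ℕ} {g : Fin l → ℕ} {σ : Equiv.Perm (Fin l)}
    (hg : ∀ i, g (σ i) = g i) (hf : ∀ i j, g i = g j → i = j) : σ = 1 := by
  ext i
  rw [Equiv.Perm.one_apply, hf _ _ (hg i)]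

theorem sym_E7 (σ : Equiv.Perm (Fin 7)) (hσ : ∀ i j, CoxeterMatrix.E₇ (σ i) (σ j) = CoxeterMatrix.E₇ i j) :
    σ = 1 := by
  have h1 : ∀ i, (![1, 1, 2, 3, 2, 2, 1] : Fin 7 → ℕ) (σ i) = (![1, 1, 2, 3, 2, 2, 1] : Fin 7 → ℕ) i :=
    inv_step hσ (g := fun _ => 1) (fun _ => rfl) (by decide)
  have h2 : ∀ i, (![2, 3, 4, 5, 5, 3, 2] : Fin 7 → ℕ) (σ i) = (![2, 3, 4, 5, 5, 3, 2] : Fin 7 → ℕ) i :=
    inv_step hσ h1 (by decide)
  have h3 : ∀ i, (![4, 5, 7, 12, 8, 7, 3] : Fin 7 → ℕ) (σ i) = (![4, 5, 7, 12, 8, 7, 3] : Fin 7 → ℕ) i :=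
    inv_step hσ h2 (by decide)
  refine sym_one (g := ![4, 5, 7, 12, 8, 7, 3] + 100 • ![2, 3, 4, 5, 5, 3, 2])
    (fun i => ?_) (by decide)
  rw [Pi.add_apply, Pi.add_apply, Pi.smul_apply, Pi.smul_apply, h2, h3]

theorem sym_E8 (σ : Equiv.Perm (Fin 8)) (hσ : ∀ i j, CoxeterMatrix.E₈ (σ i) (σ j) = CoxeterMatrix.E₈ i j) :
    σ = 1 := by
  have h1 : ∀ i, (![1, 1, 2, 3, 2, 2, 2, 1] : Fin 8 → ℕ) (σ i) = (![1, 1, 2, 3, 2, 2, 2, 1] : Fin 8 → ℕ) i :=
    inv_step hσ (g := fun _ => 1) (fun _ => rfl) (by decide)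
  have h2 : ∀ i, (![2, 3, 4, 5, 5, 4, 3, 2] : Fin 8 → ℕ) (σ i) = (![2, 3, 4, 5, 5, 4, 3, 2] : Fin 8 → ℕ) i :=
    inv_step hσ h1 (by decide)
  exact sym_one (g := ![4, 5, 7, 12, 9, 8, 6, 3])
    (fun i => inv_step hσ h2 (by decide) i) (by decide)

set_option backward.isDefEq.respectTransparency false in
theorem sym_F4 : ∀ σ : Equiv.Perm (Fin 4), (∀ i j, CoxeterMatrix.F₄ (σ i) (σ j) = CoxeterMatrix.F₄ i j) →
    σ = 1 ∨ σ = H69.OutGF.flip4' := by
  decide +kernel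

/-! ### the Chevalley groups -/

section chev

variable {D : ChevalleyDatum} {l : ℕ} {M : CoxeterMatrix (Fin l)} (hp : IsType D l M) (K : Type) [Field K]
  [Fintype K] {W : Type*} [Group W] [Finite W] (cs : CoxeterSystem M W) (p : ℕ) [Fact p.Prime] [CharP K p]

include p in
/-- frame automorphisms without diagram part are in `PM` -/
theorem pm_of_diag_one {γ : MulAut ↥(D.group K)} (hγ : Diag (TG D K) (XX D l K) γ 1) :
    PM cs hp.isCartan (TG D K) (XX D l K) γ := by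
  have R := rgd (K := K) hp cs p
  refine ⟨hγ.tor, Or.inl ?_⟩
  intro x hx y
  exact hγ.root_comp R (fun _ _ => rfl) hx y

include p in
/-- **The Chevalley groups with a frame.** -/
theorem extD3_chev (hK : Odd (Fintype.card K)) (hsim : IsSimpleGroup ↥(D.group K) ∧ ¬ IsMulCommutative ↥(D.group K))
    {k s : ℕ} {c : Cert} (hA : IsTab (cartanOf D l) c.AL) (hc : Ok l k (2 ^ s) c) (hs : 2 ≤ s)
    (hO1 : ∀ a < k, ∀ b < k, a ≠ b → Orth D l (toV l (c.T.getD a [])) (toV l (c.T.getD b [])))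
    (hlk : ∀ j, ∃ i, lk D l i j)
    (hord : ∀ m : ℕ, 2 ^ m ∣ Nat.card ↥(D.group K) →
      2 ^ m ∣ Nat.card ↥(D.diagonalSubgroup K) * 2 ^ s * (Fintype.card K + 1) ^ k)
    (hpm : ∀ (γ : MulAut ↥(D.group K)) (σ : Equiv.Perm (Fin l)), Diag (TG D K) (XX D l K) γ σ →
      ∃ m : ↥(D.group K), PM cs hp.isCartan (TG D K) (XX D l K) (MulAut.conj m * γ)) : ExtD3 ↥(D.group K) := by
  have := hsim.1
  have hna : ¬ ∀ a b : ↥(D.group K), a * b = b * a := fun h => hsim.2 ⟨⟨fun a b => h a b⟩⟩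
  have hp2 : p ≠ 2 := by
    rintro rfl
    exact two_ne K hK CharTwo.two_eq_zero
  obtain ⟨f1, f2, f3, hcard⟩ := wframe' cs hp.isCartan hA hc
  have F : FrameData cs hp.isCartan (XX D l K) (fun a : Fin k => toV l (c.T.getD a [])) (Subgroup.closure (Gm cs c)) :=
    ⟨fun a => f1 a a.2, fun a b hab => lc_of_orth hp K (hO1 a a.2 b b.2 fun e => hab (Fin.ext e)), f2, f3⟩
  have hT : Nat.card (TG D K) = Nat.card ↥(D.diagonalSubgroup K) :=
    Nat.card_congr (Subgroup.subgroupOfEquivOfLe (Cfsg.Agent.ChevalleyStructure.Elts.diagonal_le_group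
      hp.inList K)).toEquiv
  have R := rgd (K := K) hp cs p
  refine extD3_of_frame (rgd (K := K) hp cs p) (center_of_simple hna) (commutator_of_simple hna)
    (Cfsg.Agent.KFacts.RgdRigid.GG_eq_top (G1_eq_top hp cs)) (FrE6.noFix hp K cs p hp2 hlk) F (isSL hp K hK) ?_
    (rk2_cert cs hp.isCartan hA hc hs) ?_
  · refine odd_index (rgd (K := K) hp cs p) F (G1_eq_top hp cs) (isSL hp K hK) ?_
    intro m hm
    rw [hT, hcard, Finset.prod_congr rfl fun a _ => by rw [card_XX hp K cs (F.root a)], Finset.prod_const,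
      Finset.card_univ, Fintype.card_fin]
    exact hord m hm
  · intro τ
    obtain ⟨g, σ, hγ⟩ := Cfsg.Agent.H69.OutCount.exists_diag_conj (rgd (K := K) hp cs p) (G1_eq_top hp cs) τ
    obtain ⟨m, hm⟩ := hpm _ _ hγ
    exact ⟨m * g, by rw [map_mul, mul_assoc]; exact hm⟩

end chev

section rows

variable (K : Type) [Field K] [Fintype K] (hK : Odd (Fintype.card K))

include hK

theorem extD3_e7' : ExtD3 ↥(chevE7.group K) := by
  obtain ⟨p, hpc⟩ := CharP.exists K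
  have : Fact p.Prime := ⟨CharP.char_is_prime K p⟩
  have : Finite CoxeterMatrix.E₇.Group := finite_W isType_E7 CoxeterMatrix.E₇.toCoxeterSystem
  refine extD3_chev isType_E7 K CoxeterMatrix.E₇.toCoxeterSystem p hK (S1054.result chevE7 (by simp)) (s := 3)
    tabE7 okE7 (by norm_num) (fun a ha b hb hab => orth_of (orth1E7 a ha b hb hab)) (by decide +kernel)
    (Orders.ord_E7 hK (three_le hK) (Nat.gcd_pos_of_pos_left _ (by norm_num)).ne' (S1064.result (F := K) rfl)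
      (S1035.result (F := K) rfl (chevE7, Nat.gcd 2 (Fintype.card K - 1)) (by simp))) ?_
  intro γ σ hγ
  have hσ := sym_E7 σ (hγ.matrix (rgd (K := K) isType_E7 CoxeterMatrix.E₇.toCoxeterSystem p))
  subst hσ
  exact ⟨1, by rw [map_one, one_mul]; exact pm_of_diag_one isType_E7 K _ p hγ⟩

theorem extD3_e8' : ExtD3 ↥(chevE8.group K) := by
  obtain ⟨p, hpc⟩ := CharP.exists K
  have : Fact p.Prime := ⟨CharP.char_is_prime K p⟩
  have : Finite CoxeterMatrix.E₈.Group := finite_W isType_E8 CoxeterMatrix.E₈.toCoxeterSystem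
  have hT := S1035.result (F := K) rfl (chevE8, 1) (by simp)
  rw [one_mul] at hT
  refine extD3_chev isType_E8 K CoxeterMatrix.E₈.toCoxeterSystem p hK (S1054.result chevE8 (by simp)) (s := 6)
    tabE8 okE8 (by norm_num) (fun a ha b hb hab => orth_of (orth1E8 a ha b hb hab)) (by decide +kernel)
    (Orders.ord_E8 hK (three_le hK) (S1065.result (F := K) rfl) hT) ?_
  intro γ σ hγ
  have hσ := sym_E8 σ (hγ.matrix (rgd (K := K) isType_E8 CoxeterMatrix.E₈.toCoxeterSystem p))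
  subst hσ
  exact ⟨1, by rw [map_one, one_mul]; exact pm_of_diag_one isType_E8 K _ p hγ⟩

theorem extD3_e6' : ExtD3 ↥(chevE6.group K) := by
  obtain ⟨p, hpc⟩ := CharP.exists K
  have : Fact p.Prime := ⟨CharP.char_is_prime K p⟩
  have : Finite CoxeterMatrix.E₆.Group := finite_W isType_E6 CoxeterMatrix.E₆.toCoxeterSystem
  refine extD3_chev isType_E6 K CoxeterMatrix.E₆.toCoxeterSystem p hK (S1054.result chevE6 (by simp)) (s := 3)
    tabE6 okE6 (by norm_num) (fun a ha b hb hab => orth_of (orth1E6 a ha b hb hab)) (by decide +kernel)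
    (Orders.ord_E6 hK (three_le hK) (Nat.gcd_pos_of_pos_left _ (by norm_num)).ne' (S1063.result (F := K) rfl)
      (S1035.result (F := K) rfl (chevE6, Nat.gcd 3 (Fintype.card K - 1)) (by simp))) ?_
  intro γ σ hγ
  obtain ⟨m, -, hm⟩ := FrE6.pm_of_diag K CoxeterMatrix.E₆.toCoxeterSystem p hγ
  exact ⟨m, hm⟩

open scoped Pointwise in
omit hK in
theorem smul_of_iff {Y : Type*} [Group Y] {γ : MulAut Y} {A B : Subgroup Y} (h : ∀ y, γ y ∈ B ↔ y ∈ A) : γ • A = B := by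
  ext y
  rw [Subgroup.mem_pointwise_smul_iff_inv_smul_mem, ← h, MulAut.smul_def, MulAut.apply_inv_self]

omit [Fintype K] hK in
theorem not_flip_F4 {γ : MulAut ↥(chevF4.group K)} (h2 : (2 : K) ≠ 0) (hγ : Diag (TG chevF4 K) (XX chevF4 4 K) γ H69.OutGF.flip4') : False := by
  have hpos : ∀ i : Fin 4, XX chevF4 4 K (sr i) = H70.ChevFix.XX chevF4 K (chevF4.simple i) := by
    intro i
    show (XV chevF4 4 K (sr i)).subgroupOf _ = (chevF4.rootSubgroup K (chevF4.simple i)).subgroupOf _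
    rw [XV_sr isType_F4]
  have hneg : ∀ i : Fin 4, XX chevF4 4 K (-sr i) = H70.ChevFix.XX chevF4 K (chevF4.neg (chevF4.simple i)) := by
    intro i
    show (XV chevF4 4 K (-sr i)).subgroupOf _ =
      (chevF4.rootSubgroup K (chevF4.neg (chevF4.simple i))).subgroupOf _
    rw [XV_neg_sr isType_F4]
  have key1 : ∀ (i : Fin 4) (y : ↥(chevF4.group K)), γ y ∈ H70.ChevFix.XX chevF4 K (chevF4.simple (H69.OutGF.flip4' i)) ↔
      y ∈ H70.ChevFix.XX chevF4 K (chevF4.simple i) := by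
    intro i y
    rw [← hpos, ← hpos]
    exact hγ.pos i y
  have key2 : ∀ (i : Fin 4) (y : ↥(chevF4.group K)),
      γ y ∈ H70.ChevFix.XX chevF4 K (chevF4.neg (chevF4.simple (H69.OutGF.flip4' i))) ↔
      y ∈ H70.ChevFix.XX chevF4 K (chevF4.neg (chevF4.simple i)) := by
    intro i y
    rw [← hneg, ← hneg]
    exact hγ.neg i y
  exact H69.OutGF.flip4_not_mem (F := K) h2 ⟨γ, ⟨fun i => smul_of_iff (key1 i), fun i => smul_of_iff (key2 i)⟩⟩

theorem extD3_f4' : ExtD3 ↥(chevF4.group K) := by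
  obtain ⟨p, hpc⟩ := CharP.exists K
  have : Fact p.Prime := ⟨CharP.char_is_prime K p⟩
  have : Finite CoxeterMatrix.F₄.Group := finite_W isType_F4 CoxeterMatrix.F₄.toCoxeterSystem
  have hT := S1035.result (F := K) rfl (chevF4, 1) (by simp)
  rw [one_mul] at hT
  refine extD3_chev isType_F4 K CoxeterMatrix.F₄.toCoxeterSystem p hK (S1054.result chevF4 (by simp)) (s := 3)
    tabF4 okF4 (by norm_num) (fun a ha b hb hab => orth_of (orth1F4 a ha b hb hab)) (by decide +kernel)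
    (Orders.ord_F4 hK (three_le hK) (S1062.result (F := K) rfl) hT) ?_
  intro γ σ hγ
  rcases sym_F4 σ (hγ.matrix (rgd (K := K) isType_F4 CoxeterMatrix.F₄.toCoxeterSystem p)) with rfl | rfl
  · exact ⟨1, by rw [map_one, one_mul]; exact pm_of_diag_one isType_F4 K _ p hγ⟩
  · exact (not_flip_F4 K (two_ne K hK) hγ).elim

end rows

/-! ### `²E₆(q)` -/

open Cfsg.Agent.Nodes.RGDTwE6 (X nn isCartan foldData) in
theorem extD3_twE6' {K : Type} [Field K] [Fintype K] {q : ℕ} (hq : IsPrimePow q) (hK : Fintype.card K = q ^ 2)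
    (ho : Odd q) : ExtD3 ↥(twistedE6 K q) := by
  obtain ⟨φ, hφ, hqq⟩ := Cfsg.Agent.ChevalleyStructure.TwE6Basic.exists_frob hq hK
  obtain ⟨p, hpc⟩ := CharP.exists K
  have : Fact p.Prime := ⟨CharP.char_is_prime K p⟩
  have hfin : Finite CoxeterMatrix.F₄.Group :=
    Cfsg.Agent.Nodes.RGDFold.finite_W (hp := RGDTwE6.hp) CoxeterMatrix.F₄.toCoxeterSystem isCartan foldData
  have hsim := S1070.result hq hK
  have := hsim.1
  have hna : ¬ ∀ a b : ↥(twistedE6 K q), a * b = b * a := fun h => hsim.2 ⟨⟨fun a b => h a b⟩⟩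
  have hKo : Odd (Fintype.card K) := by rw [hK]; exact ho.pow
  have hp2 : p ≠ 2 := by
    rintro rfl
    exact SL.two_ne hKo CharTwo.two_eq_zero
  have hN := ClosedTw.nodes hφ hqq hq.one_lt hK ho (SL.two_ne hKo)
  let cs := CoxeterMatrix.F₄.toCoxeterSystem
  have F := frameData_tw (K := K) (q := q) (φ := φ) cs
  refine extD3_of_frame (RGDTwE6.rgd cs hφ hqq p) (center_of_simple hna) (commutator_of_simple hna)
    (Cfsg.Agent.KFacts.RgdRigid.GG_eq_top (RGDTwE6.G1_eq_top cs hφ hqq)) (FrTw.noFix hφ hqq cs p hp2) F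
    (fun i => (hN i).2) (FrTw.odd_index_tw hφ hqq cs p hq hK ho F (Fintype.card_fin 4) (card_P_tw cs) (long_tw cs))
    (rk2_cert cs isCartan tabTwE6 (s := 3) okTwE6 (by norm_num)) ?_
  intro τ
  obtain ⟨g, σ, hγ⟩ := Cfsg.Agent.H69.OutCount.exists_diag_conj (RGDTwE6.rgd cs hφ hqq p)
    (RGDTwE6.G1_eq_top cs hφ hqq) τ
  exact ⟨g, FrTw.pm_of_diag hφ hqq cs p hq.one_lt hK hγ⟩

/-! ### the rows -/

section iso

variable {S : Type u} [Group S] [Finite S] {K : Type} [Field K] [Fintype K]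

/-- **`F₄(q)`, `q` odd** -/
theorem extD3_f4 (hK : Odd (Fintype.card K)) (e : S ≃* chevF4.group K) : ExtD3 S := extD3_congr e (extD3_f4' K hK)

/-- **`E₆(q)`, `q` odd** -/
theorem extD3_e6 (hK : Odd (Fintype.card K)) (e : S ≃* chevE6.group K) : ExtD3 S := extD3_congr e (extD3_e6' K hK)

/-- **`E₇(q)`, `q` odd** -/
theorem extD3_e7 (hK : Odd (Fintype.card K)) (e : S ≃* chevE7.group K) : ExtD3 S := extD3_congr e (extD3_e7' K hK)

/-- **`E₈(q)`, `q` odd** -/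
theorem extD3_e8 (hK : Odd (Fintype.card K)) (e : S ≃* chevE8.group K) : ExtD3 S := extD3_congr e (extD3_e8' K hK)

/-- **`²E₆(q)`, `q` odd** -/
theorem extD3_twE6 {q : ℕ} (hq : IsPrimePow q) (hK : Fintype.card K = q ^ 2) (ho : Odd q)
    (e : S ≃* twistedE6 K q) : ExtD3 S := extD3_congr e (extD3_twE6' hq hK ho)

end iso

end Cfsg.Agent.H951.K547
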