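import Cfsg.Agent.H951.K547.Gen2

/-!
# S4547: groups of order 16 with a normal Klein group (helper951)

* `exists_Psi_of_sq` : the second part of `exists_Psi`;
* `order16` : `G` of order 16, `V` a noncentral normal Klein group containing all squares, `φ` an automorphism with
  `φ V = V`: `G` needs three generators and `φ ^ 2` is trivial on `G / Φ(G)`;
* `psiProp_klein` : the consequence for groups of order 48.
-/

set_option autoImplicit false

namespace Cfsg.Agent.H951.K547

open Cfsg.Agent.H821.K547 Subgroup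

universe u v

theorem exists_Psi_of_sq {Y : Type u} [Group Y] [Finite Y] {Q : Subgroup Y} (hQ2 : IsPGroup 2 Q) {φ : MulAut Y}
    (hφ : ∀ x, φ x ∈ Q ↔ x ∈ Q) (h2 : ∀ x ∈ Q, φ (φ x) * x⁻¹ ∈ Sq Q) (hrk : Rk 3 Q) :
    ∃ Ψ : Subgroup Y, Ψ ≤ Q ∧ (∀ x ∈ Q, x ^ 2 ∈ Ψ) ∧ (∀ x ∈ Q, φ x * x⁻¹ ∈ Ψ) ∧ 4 ≤ Ψ.relIndex Q := by
  classical
  have hn : ((Sq Q).subgroupOf Q).Normal := normal_of_sq fun x => sq_mem_Sq x.2
  let V := ↥Q ⧸ (Sq Q).subgroupOf Q
  have hV2 : ∀ v : V, v ^ 2 = 1 := by
    intro v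
    induction v using QuotientGroup.induction_on with
    | H x =>
      rw [← QuotientGroup.mk_pow]
      exact (QuotientGroup.eq_one_iff _).2 (sq_mem_Sq x.2)
  have hVc : ∀ a b : V, a * b = b * a := by
    intro a b
    have h1 := hV2 (a * b)
    have ha : a⁻¹ = a := inv_eq_of_mul_eq_one_left (by rw [← pow_two]; exact hV2 a)
    have hb : b⁻¹ = b := inv_eq_of_mul_eq_one_left (by rw [← pow_two]; exact hV2 b)
    have h2 : (a * b)⁻¹ = a * b := inv_eq_of_mul_eq_one_left (by rw [← pow_two]; exact h1)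
    rw [← h2, mul_inv_rev, ha, hb]
  letI : CommGroup V := { (inferInstance : Group V) with mul_comm := hVc }
  let π : ↥Q →* V := QuotientGroup.mk' _
  have hπs : Function.Surjective π := QuotientGroup.mk'_surjective _
  have hπ1 : ∀ x : Q, π x = 1 ↔ (x : Y) ∈ Sq Q := fun x => (QuotientGroup.eq_one_iff x).trans mem_subgroupOf
  let f : ↥Q →* ↥Q :=
    { toFun := fun x => ⟨φ x, (hφ x).2 x.2⟩
      map_one' := Subtype.ext (map_one φ)
      map_mul' := fun a b => Subtype.ext (map_mul φ (a : Y) b) }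
  let δ : ↥Q →* V :=
    { toFun := fun x => π (f x) * (π x)⁻¹
      map_one' := by simp
      map_mul' := fun a b => by
        rw [map_mul, map_mul, map_mul, mul_inv]
        exact mul_mul_mul_comm _ _ _ _ }
  have hδ : ∀ x, δ x = π (f x) * (π x)⁻¹ := fun x => rfl
  have hδ2 : ∀ x, δ x ^ 2 = 1 := fun x => hV2 _
  -- `δ` is trivial on `Sq Q`
  have hδS : ∀ x : Q, (x : Y) ∈ Sq Q → δ x = 1 := by
    intro x hx
    rw [hδ, (hπ1 x).2 hx, inv_one, mul_one, hπ1]
    exact Sq_map hφ _ hx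
  have hff : ∀ x, π (f (f x)) = π x := by
    intro x
    rw [← mul_inv_eq_one, ← map_inv, ← map_mul, hπ1]
    exact h2 x x.2
  have hle : (δ.range.comap π) ≤ δ.ker := by
    intro x hx
    obtain ⟨y, hy⟩ := hx
    rw [MonoidHom.mem_ker]
    have h3 : δ (x * (f y * y⁻¹)⁻¹) = 1 := by
      apply hδS
      rw [← hπ1, map_mul, map_inv, map_mul, map_inv, ← hδ, hy]
      exact mul_inv_cancel _
    have h4 : δ (f y * y⁻¹) = 1 := by
      rw [hδ, map_mul, map_mul, map_mul, map_inv, map_inv, map_inv, hff]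
      have h5 : π y * (π (f y))⁻¹ * (π (f y) * (π y)⁻¹)⁻¹ = (π y * (π (f y))⁻¹) ^ 2 := by
        rw [mul_inv_rev, inv_inv, pow_two]
      rw [h5, hV2]
    rw [map_mul, map_inv, h4, inv_one, mul_one] at h3
    exact h3
  -- the subgroup
  refine ⟨(δ.range.comap π).map Q.subtype, ?_, fun x hx => ?_, fun x hx => ?_, ?_⟩
  · rintro _ ⟨x, -, rfl⟩
    exact x.2
  · refine ⟨⟨x, hx⟩ ^ 2, ?_, rfl⟩
    show π (⟨x, hx⟩ ^ 2) ∈ δ.range
    rw [map_pow, hV2]
    exact one_mem _
  · exact ⟨f ⟨x, hx⟩ * (⟨x, hx⟩ : Q)⁻¹, ⟨⟨x, hx⟩, by rw [hδ, map_mul, map_inv]⟩, rfl⟩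
  · have e1 : ((δ.range.comap π).map Q.subtype).relIndex Q = (δ.range.comap π).index := by
      rw [relIndex, subgroupOf, comap_map_eq_self_of_injective Q.subtype_injective]
    rw [e1]
    have e2 : (δ.range.comap π).index = δ.range.index := index_comap_of_surjective _ hπs
    have e3 : δ.range.index * Nat.card δ.range = Nat.card V := by rw [mul_comm]; exact card_mul_index _
    have e4 : 2 ^ 3 ≤ Nat.card V := index_of_rk hrk
    have e5 : Nat.card δ.range ≤ δ.range.index := by
      have h6 : δ.ker.index = Nat.card δ.range := index_ker δ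
      rw [← h6, ← e2]
      exact Nat.le_of_dvd (Nat.pos_of_ne_zero FiniteIndex.index_ne_zero) (index_dvd_of_le hle)
    obtain ⟨j, hj⟩ : ∃ j, δ.range.index = 2 ^ j := by
      obtain ⟨m, hm⟩ := hQ2.exists_card_eq
      have h7 : δ.range.index ∣ 2 ^ m := by
        rw [← hm, ← e2]
        exact index_dvd_card _
      obtain ⟨j, -, hj⟩ := (Nat.dvd_prime_pow Nat.prime_two).1 h7
      exact ⟨j, hj⟩
    rw [e2]
    rw [hj] at e3 e5 ⊢
    have h8 : 2 ≤ j := by
      by_contra hcon
      have h9 : 2 ^ j ≤ 2 := by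
        calc 2 ^ j ≤ 2 ^ 1 := Nat.pow_le_pow_right (by norm_num) (by omega)
          _ = 2 := by norm_num
      have h10 : 2 ^ j * Nat.card δ.range ≤ 2 * 2 := Nat.mul_le_mul h9 (e5.trans h9)
      omega
    calc 4 = 2 ^ 2 := by norm_num
      _ ≤ 2 ^ j := Nat.pow_le_pow_right (by norm_num) h8


/-! ### groups of order 16 -/

theorem order16 {G : Type u} [Group G] [Finite G] (hG : Nat.card G = 16) (V : Subgroup G) [hVn : V.Normal]
    (hV : Nat.card V = 4) (hV2 : ∀ v ∈ V, v ^ 2 = 1) (hsq : ∀ x : G, x ^ 2 ∈ V)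
    (hnc : ∃ x : G, ∃ v ∈ V, x * v ≠ v * x) (φ : MulAut G) (hφ : ∀ x, φ x ∈ V ↔ x ∈ V) :
    Rk 3 G ∧ ∀ x, φ (φ x) * x⁻¹ ∈ Sq (⊤ : Subgroup G) := by
  classical
  obtain ⟨a, v, hv, hav⟩ := hnc
  -- commutators are in `V`, `V` is abelian
  have hinv : ∀ w ∈ V, w⁻¹ = w := fun w hw => inv_eq_of_mul_eq_one_left (by rw [← pow_two]; exact hV2 w hw)
  have hVc : ∀ x ∈ V, ∀ y ∈ V, x * y = y * x := by
    intro x hx y hy
    have h1 := hinv _ (mul_mem hx hy)
    rw [mul_inv_rev, hinv x hx, hinv y hy] at h1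
    exact h1.symm
  have hcomm : ∀ x y : G, x * y * x⁻¹ * y⁻¹ ∈ V := by
    intro x y
    have h1 : x * y * x⁻¹ * y⁻¹ = (x * y) ^ 2 * (y⁻¹ * x ^ 2 * y)⁻¹ * (y ^ 2)⁻¹ := by
      rw [pow_two, pow_two, pow_two]
      group
    have h2 : y⁻¹ * x ^ 2 * y ∈ V := by
      have := hVn.conj_mem _ (hsq x) y⁻¹
      rwa [inv_inv] at this
    rw [h1]
    exact mul_mem (mul_mem (hsq _) (inv_mem h2)) (inv_mem (hsq _))
  -- the element `e`
  obtain ⟨e, he⟩ : ∃ e, e = a * v * a⁻¹ * v⁻¹ := ⟨_, rfl⟩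
  have heV : e ∈ V := by rw [he]; exact hcomm a v
  have hava : a * v * a⁻¹ = e * v := by rw [he]; group
  have he1 : e ≠ 1 := by
    intro h
    rw [h, one_mul, mul_inv_eq_iff_eq_mul] at hava
    exact hav hava
  have hv1 : v ≠ 1 := by
    rintro rfl
    apply hav
    rw [mul_one, one_mul]
  have hev : e ≠ v := by
    intro h
    rw [h, ← pow_two, hV2 v hv] at hava
    apply hv1
    have : v = a⁻¹ * (a * v * a⁻¹) * a := by group
    rw [this, hava]
    group
  have hev2 : e * v ≠ 1 := by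
    intro h
    apply hev
    rw [← hinv v hv]
    exact eq_inv_of_mul_eq_one_left h
  have hVall : ∀ x ∈ V, x = 1 ∨ x = e ∨ x = v ∨ x = e * v := by
    have hS : ({1, e, v, e * v} : Set G) = V := by
      apply Set.eq_of_subset_of_ncard_le _ _ (Set.toFinite _)
      · rintro x (rfl | rfl | rfl | rfl)
        · exact one_mem V
        · exact heV
        · exact hv
        · exact mul_mem heV hv
      · have h1 : (V : Set G).ncard = 4 := hV
        rw [h1, Set.ncard_insert_of_notMem _ (Set.toFinite _), Set.ncard_insert_of_notMem _ (Set.toFinite _),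
          Set.ncard_pair]
        · intro h
          apply he1
          have h2 : e * v * v⁻¹ = v * v⁻¹ := by rw [← h]
          rwa [mul_inv_cancel_right, mul_inv_cancel] at h2
        · rintro (h | h)
          · exact hev h
          · apply hv1
            have h2 : e⁻¹ * e = e⁻¹ * (e * v) := by rw [← h]
            rw [inv_mul_cancel, inv_mul_cancel_left] at h2
            exact h2.symm
        · rintro (h | h | h)
          · exact he1 h.symm
          · exact hv1 h.symm
          · exact hev2 h.symm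
    intro x hx
    have h1 : x ∈ ({1, e, v, e * v} : Set G) := by rw [hS]; exact hx
    simpa using h1
  -- `a` commutes with `e`
  have hae : a * e = e * a := by
    have h1 : a ^ 2 * v = v * a ^ 2 := hVc _ (hsq a) v hv
    have h2 : a * (e * v) * a⁻¹ = v := by
      rw [← hava]
      have : a * (a * v * a⁻¹) * a⁻¹ = a ^ 2 * v * (a ^ 2)⁻¹ := by rw [pow_two]; group
      rw [this, h1, mul_inv_cancel_right]
    have h3 : a * e * a⁻¹ * (e * v) = v := by
      rw [← hava]
      have : a * e * a⁻¹ * (a * v * a⁻¹) = a * (e * v) * a⁻¹ := by group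
      rw [this, h2]
    have h4 : a * e * a⁻¹ = e := by
      have h5 : a * e * a⁻¹ = v * (e * v)⁻¹ := eq_mul_inv_of_mul_eq h3
      rw [h5, hinv _ (mul_mem heV hv), ← mul_assoc, hVc v hv e heV, mul_assoc, ← pow_two, hV2 v hv, mul_one]
    rw [mul_inv_eq_iff_eq_mul] at h4
    exact h4
  -- fixed points of `a`
  have hfix : ∀ x ∈ V, a * x = x * a → x = 1 ∨ x = e := by
    intro x hx hc
    rcases hVall x hx with h | h | h | h
    · exact Or.inl h
    · exact Or.inr h
    · rw [h] at hc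
      exact absurd hc hav
    · exfalso
      rw [h, ← mul_assoc, hae, mul_assoc, mul_assoc] at hc
      exact hav (mul_left_cancel hc)
  -- `e` is central
  have hec : ∀ y, y * e = e * y := by
    intro y
    have h1 : y * e * y⁻¹ ∈ V := hVn.conj_mem _ heV y
    have h2 : a * (y * e * y⁻¹) = (y * e * y⁻¹) * a := by
      obtain ⟨k, hk⟩ : ∃ k, k = a⁻¹ * y⁻¹ * a * y := ⟨_, rfl⟩
      have h4 : k ∈ V := by
        have := hcomm a⁻¹ y⁻¹
        rw [inv_inv, inv_inv] at this
        rw [hk]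
        exact this
      have h3 : k * e * k⁻¹ = e := by rw [hVc k h4 e heV, mul_inv_cancel_right]
      have h6 : a * e * a⁻¹ = e := by rw [hae, mul_inv_cancel_right]
      have h5 : a * (y * e * y⁻¹) * a⁻¹ = y * (a * (k * e * k⁻¹) * a⁻¹) * y⁻¹ := by
        rw [hk]
        group
      rw [h3, h6, mul_inv_eq_iff_eq_mul] at h5
      exact h5
    rcases hfix _ h1 h2 with h3 | h3
    · exfalso
      apply he1
      have : e = y⁻¹ * (y * e * y⁻¹) * y := by group
      rw [this, h3]
      group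
    · rw [mul_inv_eq_iff_eq_mul] at h3
      exact h3
  have hE : ∀ x, x ∈ zpowers e ↔ x = 1 ∨ x = e := by
    intro x
    constructor
    · rintro ⟨i, rfl⟩
      rcases Int.even_or_odd' i with ⟨j, hj | hj⟩
      · left
        show e ^ i = 1
        rw [hj, zpow_mul, zpow_ofNat, hV2 e heV, one_zpow]
      · right
        show e ^ i = e
        rw [hj, zpow_add, zpow_mul, zpow_ofNat, hV2 e heV, one_zpow, one_mul, zpow_one]
    · rintro (rfl | rfl)
      · exact one_mem _
      · exact mem_zpowers _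
  -- the centraliser of `V`
  have hCV : ∀ y, y * v = v * y → ∀ x ∈ V, y * x = x * y := by
    intro y hy x hx
    rcases hVall x hx with h | h | h | h
    · rw [h, mul_one, one_mul]
    · rw [h, hec]
    · rw [h, hy]
    · rw [h, ← mul_assoc, hec, mul_assoc, hy, mul_assoc]
  -- squares
  have hsqE : ∀ y : G, y ^ 2 ∈ zpowers e := by
    intro y
    rw [hE]
    by_cases hy : y * v = v * y
    · apply hfix _ (hsq y)
      obtain ⟨c, hc⟩ : ∃ c, c = a * y * a⁻¹ * y⁻¹ := ⟨_, rfl⟩
      have hcV : c ∈ V := by rw [hc]; exact hcomm a y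
      have h1 : a * y * a⁻¹ = c * y := by rw [hc]; group
      have h2 : a * y ^ 2 * a⁻¹ = y ^ 2 := by
        have h3 : a * y ^ 2 * a⁻¹ = (a * y * a⁻¹) * (a * y * a⁻¹) := by rw [pow_two]; group
        rw [h3, h1]
        have h4 : c * y * (c * y) = c * (y * c) * y := by group
        rw [h4, hCV y hy c hcV]
        have h5 : c * (c * y) * y = c ^ 2 * y ^ 2 := by rw [pow_two, pow_two]; group
        rw [h5, hV2 c hcV, one_mul]
      rw [mul_inv_eq_iff_eq_mul] at h2
      exact h2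
    · have hyy : y * y ^ 2 = y ^ 2 * y := by rw [pow_two]; group
      rcases hVall _ (hsq y) with h | h | h | h
      · exact Or.inl h
      · exact Or.inr h
      · rw [h] at hyy
        exact absurd hyy hy
      · exfalso
        rw [h, ← mul_assoc, hec, mul_assoc, mul_assoc] at hyy
        exact hy (mul_left_cancel hyy)
  have hcE : Nat.card (zpowers e) = 2 := by
    rw [Nat.card_zpowers]
    exact orderOf_eq_prime (hV2 e heV) he1
  refine ⟨rk_of_sq (N := zpowers e) hsqE ?_, ?_⟩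
  · have h1 := (zpowers e).card_mul_index
    rw [hcE, hG] at h1
    omega
  -- `e ∈ Sq ⊤`
  have hESq : ∀ x ∈ zpowers e, x ∈ Sq (⊤ : Subgroup G) := by
    have h1 : zpowers e ≤ Sq (⊤ : Subgroup G) := by
      rw [zpowers_le, he]
      exact comm_mem_Sq (mem_top a) (mem_top v)
    exact h1
  suffices hsuff : ∀ x, φ (φ x) * x⁻¹ ∈ zpowers e from fun x => hESq _ (hsuff x)
  -- central elements
  have hcen : ∀ x ∈ V, (∀ y, y * x = x * y) → x ∈ zpowers e := by
    intro x hx hxc
    rw [hE]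
    exact hfix x hx (hxc a)
  have hφcen : ∀ x, (∀ y, y * x = x * y) → ∀ y, y * φ x = φ x * y := by
    intro x hx y
    have h1 : φ (φ⁻¹ y * x) = φ (x * φ⁻¹ y) := by rw [hx]
    rw [map_mul, map_mul, MulAut.apply_inv_self] at h1
    exact h1
  -- elements of `V`
  have hφV : ∀ x ∈ V, φ x * x⁻¹ ∈ zpowers e := by
    have hφe : φ e ∈ zpowers e := hcen _ ((hφ e).2 heV) (hφcen e hec)
    have hφv : φ v * v⁻¹ ∈ zpowers e := by
      have h1 : φ v ∈ V := (hφ v).2 hv
      have h2 : φ v ∉ zpowers e := by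
        intro h
        have h3 : φ v = 1 ∨ φ v = e := (hE _).1 h
        have h4 : φ e = e := by
          rcases (hE _).1 hφe with h5 | h5
          · exact absurd ((map_eq_one_iff φ φ.injective).1 h5) he1
          · exact h5
        rcases h3 with h3 | h3
        · exact hv1 ((map_eq_one_iff φ φ.injective).1 h3)
        · rw [← h4] at h3
          exact hev (φ.injective h3).symm
      rcases hVall _ h1 with h | h | h | h
      · exact absurd ((hE _).2 (Or.inl h)) h2
      · exact absurd ((hE _).2 (Or.inr h)) h2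
      · rw [h, mul_inv_cancel]
        exact one_mem _
      · rw [h, mul_inv_cancel_right]
        exact mem_zpowers e
    intro x hx
    rcases hVall x hx with h | h | h | h
    · rw [h, map_one, inv_one, mul_one]
      exact one_mem _
    · rw [h]
      exact mul_mem hφe (inv_mem (mem_zpowers e))
    · rw [h]
      exact hφv
    · rw [h, map_mul, mul_inv_rev, ← mul_assoc, mul_assoc (φ e)]
      exact mul_mem (mul_mem hφe hφv) (inv_mem (mem_zpowers e))
  -- the centraliser of `v`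
  have hnotC : ∀ y, ¬ y * v = v * y → y * v * y⁻¹ = e * v := by
    intro y hy
    have h1 : y * v * y⁻¹ ∈ V := hVn.conj_mem _ hv y
    rcases hVall _ h1 with h | h | h | h
    · exfalso
      apply hv1
      have : v = y⁻¹ * (y * v * y⁻¹) * y := by group
      rw [this, h]
      group
    · exfalso
      apply hev
      have : v = y⁻¹ * (y * v * y⁻¹) * y := by group
      rw [this, h, mul_assoc, ← hec, inv_mul_cancel_left]
    · exfalso
      rw [mul_inv_eq_iff_eq_mul] at h
      exact hy h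
    · exact h
  have hC2 : ∀ x y, ¬ x * v = v * x → ¬ y * v = v * y → x * y⁻¹ * v = v * (x * y⁻¹) := by
    intro x y hx hy
    have h1 := hnotC x hx
    have h2 := hnotC y hy
    have h3 : y⁻¹ * v * y = e * v := by
      have h4 : y⁻¹ * (e * v) * y = v := by rw [← h2]; group
      have h5 : y⁻¹ * (e * v) * y = e * (y⁻¹ * v * y) := by
        rw [← mul_assoc y⁻¹ e v, hec y⁻¹]
        group
      rw [h5] at h4
      have h6 : y⁻¹ * v * y = e⁻¹ * v := eq_inv_mul_of_mul_eq h4
      rw [h6, hinv e heV]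
    have h7 : x * y⁻¹ * v * (x * y⁻¹)⁻¹ = v := by
      have h8 : x * y⁻¹ * v * (x * y⁻¹)⁻¹ = x * (y⁻¹ * v * y) * x⁻¹ := by group
      have h9 : x * (e * v) * x⁻¹ = e * (x * v * x⁻¹) := by
        rw [← mul_assoc x e v, hec x]
        group
      rw [h8, h3, h9, h1, ← mul_assoc, ← pow_two, hV2 e heV, one_mul]
    rw [mul_inv_eq_iff_eq_mul] at h7
    exact h7
  -- `C` has order 8
  obtain ⟨C, hC⟩ : ∃ C : Subgroup G, C = centralizer {v} := ⟨_, rfl⟩
  have hCm : ∀ y, y ∈ C ↔ y * v = v * y := by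
    intro y
    rw [hC, mem_centralizer_singleton_iff]
  have hCi : C.index = 2 := by
    rw [index_eq_two_iff]
    refine ⟨a, fun b => ?_⟩
    have haC : a ∉ C := fun h => hav ((hCm a).1 h)
    by_cases hb : b ∈ C
    · refine Or.inr ⟨hb, fun h => haC ?_⟩
      have := mul_mem (inv_mem hb) h
      rwa [inv_mul_cancel_left] at this
    · refine Or.inl ⟨?_, hb⟩
      have ha' : a⁻¹ ∉ C := fun h => haC (by have := inv_mem h; rwa [inv_inv] at this)
      have := (hCm _).2 (hC2 b a⁻¹ (fun h => hb ((hCm b).2 h)) (fun h => ha' ((hCm _).2 h)))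
      rwa [inv_inv] at this
  have hcC : Nat.card C = 8 := by
    have h1 := C.card_mul_index
    rw [hCi, hG] at h1
    omega
  have hVC : V ≤ C := fun x hx => (hCm x).2 (hVc x hx v hv)
  obtain ⟨z0, hz0, hz0V⟩ : ∃ z ∈ C, z ∉ V := by
    by_contra hcon
    push Not at hcon
    have h1 : C ≤ V := hcon
    have h2 := card_le_of_le h1
    rw [hcC, hV] at h2
    omega
  have hVCi : V.relIndex C = 2 := by
    have h1 : Nat.card V * V.relIndex C = Nat.card C := by
      rw [relIndex, ← Nat.card_congr (subgroupOfEquivOfLe hVC).toEquiv]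
      exact card_mul_index _
    rw [hV, hcC] at h1
    omega
  have hCC : ∀ x ∈ C, ∀ y ∈ C, x ∉ V → y ∉ V → x * y⁻¹ ∈ V := by
    intro x hx y hy hxV hyV
    have h1 := (mul_mem_iff_of_index_two (H := V.subgroupOf C) hVCi (a := ⟨x, hx⟩) (b := (⟨y, hy⟩ : C)⁻¹)).2 ?_
    · exact h1
    · refine iff_of_false hxV ?_
      intro h
      have h2 := inv_mem h
      rw [inv_inv] at h2
      exact hyV h2
  -- a central element
  obtain ⟨z, hzC, hzV, haz⟩ : ∃ z ∈ C, z ∉ V ∧ a * z = z * a := by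
    obtain ⟨c, hc⟩ : ∃ c, c = a * z0 * a⁻¹ * z0⁻¹ := ⟨_, rfl⟩
    have hcV : c ∈ V := by rw [hc]; exact hcomm a z0
    have h1 : a * z0 * a⁻¹ = c * z0 := by rw [hc]; group
    have h2 : a * c = c * a := by
      have h3 : a ^ 2 * z0 * (a ^ 2)⁻¹ = z0 := by
        rw [← hCV z0 ((hCm z0).1 hz0) _ (hsq a), mul_inv_cancel_right]
      have h4 : a ^ 2 * z0 * (a ^ 2)⁻¹ = (a * c * a⁻¹) * (a * z0 * a⁻¹) := by
        calc a ^ 2 * z0 * (a ^ 2)⁻¹ = a * (a * z0 * a⁻¹) * a⁻¹ := by rw [pow_two]; group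
          _ = a * (c * z0) * a⁻¹ := by rw [h1]
          _ = _ := by group
      rw [h4, h1, ← mul_assoc] at h3
      have h5 : a * c * a⁻¹ * c = 1 := mul_eq_right.1 h3
      have h6 : a * c * a⁻¹ = c⁻¹ := eq_inv_of_mul_eq_one_left h5
      rw [hinv c hcV, mul_inv_eq_iff_eq_mul] at h6
      exact h6
    rcases hfix c hcV h2 with h3 | h3
    · refine ⟨z0, hz0, hz0V, ?_⟩
      rw [h3, one_mul, mul_inv_eq_iff_eq_mul] at h1
      exact h1
    · refine ⟨v * z0, mul_mem (hVC hv) hz0, fun h => hz0V ?_, ?_⟩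
      · have := mul_mem (inv_mem hv) h
        rwa [inv_mul_cancel_left] at this
      · have h4 : a * (v * z0) * a⁻¹ = v * z0 := by
          have h5 : a * (v * z0) * a⁻¹ = (a * v * a⁻¹) * (a * z0 * a⁻¹) := by group
          rw [h5, hava, h1, h3]
          have h6 : e * v * (e * z0) = e * (v * e) * z0 := by group
          rw [h6, hVc v hv e heV]
          have h7 : e * (e * v) * z0 = e ^ 2 * (v * z0) := by rw [pow_two]; group
          rw [h7, hV2 e heV, one_mul]
        rw [mul_inv_eq_iff_eq_mul] at h4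
        exact h4
  have hzcen : ∀ y, y * z = z * y := by
    have h1 : ∀ y ∈ C, y * z = z * y := by
      intro y hy
      by_cases hyV : y ∈ V
      · exact (hCV z ((hCm z).1 hzC) y hyV).symm
      · have h2 := hCC y hy z hzC hyV hzV
        have h3 := hCV z ((hCm z).1 hzC) _ h2
        rw [inv_mul_cancel_right, ← mul_assoc, mul_inv_eq_iff_eq_mul] at h3
        exact h3.symm
    intro y
    by_cases hy : y ∈ C
    · exact h1 y hy
    · have h2 : y * a⁻¹ ∈ C := (hCm _).2 (hC2 y a (fun h => hy ((hCm y).2 h)) hav)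
      have h3 := h1 _ h2
      have h4 : y = y * a⁻¹ * a := by group
      rw [h4, mul_assoc, haz, ← mul_assoc, h3, mul_assoc]
  -- `φ` preserves `C`
  have hφC : ∀ y ∈ C, φ y ∈ C := by
    intro y hy
    have h1 : ∀ x ∈ V, φ y * x = x * φ y := by
      intro x hx
      have h2 : φ⁻¹ x ∈ V := by rw [← hφ, MulAut.apply_inv_self]; exact hx
      have h3 := congrArg φ (hCV y ((hCm y).1 hy) _ h2)
      rw [map_mul, map_mul, MulAut.apply_inv_self] at h3
      exact h3
    exact (hCm _).2 (h1 v hv)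
  have hφC' : ∀ y, φ y ∈ C → y ∈ C := by
    intro y hy
    have h1 : ∀ x ∈ V, y * x = x * y := by
      intro x hx
      have h3 := hCV _ ((hCm _).1 hy) _ ((hφ x).2 hx)
      rw [← map_mul, ← map_mul] at h3
      exact φ.injective h3
    exact (hCm _).2 (h1 v hv)
  have hφz : φ z * z⁻¹ ∈ zpowers e := by
    have h1 : φ z ∉ V := fun h => hzV ((hφ z).1 h)
    refine hcen _ (hCC _ (hφC z hzC) _ hzC h1 hzV) fun y => ?_
    rw [← mul_assoc, hφcen z hzcen y, mul_assoc, mul_assoc]
    congr 1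
    rw [eq_inv_mul_iff_mul_eq, ← mul_assoc, ← hzcen y, mul_inv_cancel_right]
  have hmain : ∀ y ∈ C, φ y * y⁻¹ ∈ zpowers e := by
    intro y hy
    by_cases hyV : y ∈ V
    · exact hφV y hyV
    · obtain ⟨w, hw⟩ : ∃ w, w = y * z⁻¹ := ⟨_, rfl⟩
      have hwV : w ∈ V := by rw [hw]; exact hCC y hy z hzC hyV hzV
      have h1 : y = w * z := by rw [hw]; group
      have h2 : φ y * y⁻¹ = (φ w * w⁻¹) * (φ z * z⁻¹) := by
        have h3 : w⁻¹ * (φ z * z⁻¹) = (φ z * z⁻¹) * w⁻¹ := by
          rcases (hE _).1 hφz with h | h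
          · rw [h, mul_one, one_mul]
          · rw [h, hec]
        rw [mul_assoc (φ w), h3, h1, map_mul, mul_inv_rev]
        group
      rw [h2]
      exact mul_mem (hφV w hwV) hφz
  intro y
  by_cases hy : y ∈ C
  · have h1 : φ (φ y) * y⁻¹ = (φ (φ y) * (φ y)⁻¹) * (φ y * y⁻¹) := by group
    rw [h1]
    exact mul_mem (hmain _ (hφC y hy)) (hmain y hy)
  · obtain ⟨d, hd⟩ : ∃ d, d = φ y * y⁻¹ := ⟨_, rfl⟩
    have hφy : φ y ∉ C := fun h => hy (hφC' y h)
    have hdC : d ∈ C := by
      rw [hd]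
      exact (hCm _).2 (hC2 _ _ (fun h => hφy ((hCm _).2 h)) (fun h => hy ((hCm y).2 h)))
    have h1 : φ y = d * y := by rw [hd]; group
    have h2 : φ (φ y) * y⁻¹ = (φ d * d⁻¹) * d ^ 2 := by
      nth_rewrite 1 [h1]
      rw [map_mul, h1, pow_two]
      group
    rw [h2]
    exact mul_mem (hmain d hdC) (hsqE d)

/-! ### groups of order 48 -/

/-- the automorphisms which stabilise `V` -/
def Stab {Y : Type u} [Group Y] (V : Subgroup Y) : Subgroup (MulAut Y) where
  carrier := {φ | ∀ x, φ x ∈ V ↔ x ∈ V}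
  mul_mem' := by
    intro φ ψ h1 h2 x
    rw [MulAut.mul_apply, h1, h2]
  one_mem' := fun x => Iff.rfl
  inv_mem' := by
    intro φ h x
    rw [← h, MulAut.apply_inv_self]

theorem mem_Stab {Y : Type u} [Group Y] {V : Subgroup Y} {φ : MulAut Y} : φ ∈ Stab V ↔ ∀ x, φ x ∈ V ↔ x ∈ V := Iff.rfl

theorem conj_mem_Stab {Y : Type u} [Group Y] {V : Subgroup Y} [hV : V.Normal] (y : Y) : MulAut.conj y ∈ Stab V := by
  intro x
  rw [MulAut.conj_apply]
  constructor
  · intro h
    have h1 := hV.conj_mem _ h y⁻¹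
    rwa [show y⁻¹ * (y * x * y⁻¹) * y⁻¹⁻¹ = x by group] at h1
  · intro h
    exact hV.conj_mem _ h y

/-- **`PsiProp` from a noncentral normal Klein group of index 12.** -/
theorem psiProp_klein {Y : Type u} [Group Y] [Finite Y] (V : Subgroup Y) [hVn : V.Normal] (hV : Nat.card V = 4)
    (hV2 : ∀ v ∈ V, v ^ 2 = 1) (hi : V.index = 12) (χ : Y →* Multiplicative (Fin 2 → ZMod 2))
    (hχ : Function.Surjective χ) (hVχ : V ≤ χ.ker)
    (hnc : ∃ y : Y, y ^ 2 ∈ V ∧ ∃ v ∈ V, y * v ≠ v * y) : PsiProp (Stab V) := by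
  classical
  intro φ hφV Q hQ2 hQi hφQ r _
  have hcY : Nat.card Y = 48 := by rw [← V.card_mul_index, hV, hi]
  have hinv : ∀ w ∈ V, w⁻¹ = w := fun w hw => inv_eq_of_mul_eq_one_left (by rw [← pow_two]; exact hV2 w hw)
  have hVc : ∀ x ∈ V, ∀ y ∈ V, x * y = y * x := by
    intro x hx y hy
    have h1 := hinv _ (mul_mem hx hy)
    rw [mul_inv_rev, hinv x hx, hinv y hy] at h1
    exact h1.symm
  -- the order of `Q`
  obtain ⟨j, hj⟩ := hQ2.exists_card_eq
  have hcQ : Nat.card Q = 16 := by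
    have h1 := Q.card_mul_index
    rw [hj, hcY] at h1
    have h2 : 2 ^ j ∣ 16 * 3 := Dvd.intro _ h1
    have h3 : 16 ∣ 2 ^ j := by
      have h4 : 16 ∣ 2 ^ j * Q.index := by rw [h1]; decide
      have h5 : Nat.Coprime 16 Q.index := by
        have : Nat.Coprime (2 ^ 4) Q.index := Nat.Coprime.pow_left 4 ((Nat.Prime.coprime_iff_not_dvd Nat.prime_two).2 hQi)
        exact this
      exact h5.dvd_of_dvd_mul_right h4
    have h6 : 2 ^ j ∣ 16 := by
      have : Nat.Coprime (2 ^ j) 3 := Nat.Coprime.pow_left j (by decide)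
      exact this.dvd_of_dvd_mul_right h2
    rw [hj]
    exact Nat.dvd_antisymm h6 h3
  -- `V ≤ Q`
  have hVQ : V ≤ Q := by
    have h1 := relIndex_sup_normal Q V
    have h2 : Q.relIndex (Q ⊔ V) ∣ Q.index := relIndex_dvd_index_of_le le_sup_left
    have h3 : Q.relIndex V ∣ 4 := by
      rw [← hV]
      exact relIndex_dvd_card _ _
    have h4 : Q.relIndex V = 1 := by
      have h5 : Q.relIndex V ∣ 2 ^ 2 := h3
      obtain ⟨i, -, hi'⟩ := (Nat.dvd_prime_pow Nat.prime_two).1 h5
      rcases Nat.eq_zero_or_pos i with rfl | h6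
      · exact hi'
      · exfalso
        apply hQi
        refine Dvd.dvd.trans ?_ h2
        rw [h1, hi']
        exact dvd_pow_self 2 h6.ne'
    exact relIndex_eq_one.1 h4
  -- squares of elements of `Q`
  have hsq : ∀ x ∈ Q, x ^ 2 ∈ V := by
    intro x hx
    have hker : x ^ 2 ∈ χ.ker := by
      rw [MonoidHom.mem_ker, map_pow]
      have : ∀ a : Multiplicative (Fin 2 → ZMod 2), a ^ 2 = 1 := by decide
      exact this _
    have hk3 : V.relIndex χ.ker = 3 := by
      have h1 := relIndex_mul_index hVχ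
      rw [index_ker, MonoidHom.range_eq_top.2 hχ, card_top, hi, Nat.card_congr Multiplicative.toAdd, Nat.card_fun,
        Nat.card_zmod, Nat.card_fin] at h1
      omega
    have h3 : (x ^ 2) ^ 3 ∈ V := by
      have h4 := (V.subgroupOf χ.ker).pow_index_mem ⟨x ^ 2, hker⟩
      have h5 : (V.subgroupOf χ.ker).index = 3 := hk3
      rw [h5] at h4
      exact h4
    obtain ⟨m, hm⟩ := hQ2 ⟨x ^ 2, pow_mem hx 2⟩
    have hm' : (x ^ 2) ^ 2 ^ m = 1 := congrArg Subtype.val hm
    exact mem_of_pow_odd V (x ^ 2) (e := 3) (k := m) (by decide) h3 (by rw [hm']; exact one_mem V)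
  -- `Q` does not centralise `V`
  have hncQ : ∃ x ∈ Q, ∃ v ∈ V, x * v ≠ v * x := by
    by_contra hcon
    push Not at hcon
    obtain ⟨y, hy2, v, hv, hyv⟩ := hnc
    have hCn : (centralizer (V : Set Y)).Normal := inferInstance
    have hQC : Q ≤ centralizer (V : Set Y) := by
      intro x hx
      rw [mem_centralizer_iff]
      intro w hw
      exact (hcon x hx w hw).symm
    have h1 : ¬ 2 ∣ (centralizer (V : Set Y)).index := fun h => hQi (h.trans (index_dvd_of_le hQC))
    have h2 : y ∈ centralizer (V : Set Y) := by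
      refine mem_of_pow_odd _ y (e := (centralizer (V : Set Y)).index) (k := 1) h1 (pow_index_mem _ y) ?_
      rw [pow_one, mem_centralizer_iff]
      intro w hw
      exact hVc w hw _ hy2
    exact hyv ((mem_centralizer_iff.1 h2 v hv).symm)
  -- the group `Q`
  let φQ : MulAut Q :=
    { toFun := fun x => ⟨φ x, (hφQ x).2 x.2⟩
      invFun := fun x => ⟨φ⁻¹ x, by rw [← hφQ, MulAut.apply_inv_self]; exact x.2⟩
      left_inv := fun x => Subtype.ext (MulAut.inv_apply_self _ φ x)
      right_inv := fun x => Subtype.ext (MulAut.apply_inv_self _ φ x)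
      map_mul' := fun a b => Subtype.ext (map_mul φ (a : Y) b) }
  have hφQ' : ∀ x : Q, ((φQ x : Q) : Y) = φ x := fun x => rfl
  have hV' : Nat.card (V.subgroupOf Q) = 4 := by
    rw [Nat.card_congr (subgroupOfEquivOfLe hVQ).toEquiv, hV]
  obtain ⟨hrk, hmain⟩ := order16 hcQ (V.subgroupOf Q) hV' (fun v hv => Subtype.ext (hV2 v hv))
    (fun x => hsq x x.2) (by
      obtain ⟨x, hx, v, hv, h⟩ := hncQ
      exact ⟨⟨x, hx⟩, ⟨v, hVQ hv⟩, hv, fun h' => h (congrArg Subtype.val h')⟩) φQ (fun x => hφV x)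
  refine exists_Psi_of_sq hQ2 hφQ (fun x hx => ?_) hrk
  have h1 := hmain ⟨x, hx⟩
  have h2 : (Sq (⊤ : Subgroup Q)).map Q.subtype ≤ Sq Q := by
    rw [map_le_iff_le_comap, Sq_le_iff]
    intro y _
    exact sq_mem_Sq y.2
  exact h2 ⟨_, h1, rfl⟩

end Cfsg.Agent.H951.K547
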