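import Cfsg.Agent.H951.K547.Fr
import Cfsg.Agent.H69.OutTwD4
import Cfsg.Agent.S1067
import Cfsg.Agent.S1092
import Cfsg.Agent.S2129

/-!
# S4547: outer 2-automorphisms of `³D₄(q)`, `q` odd (helper951)

* `extD3_of_torus` : `N` has odd index, all automorphisms are inner times automorphisms which fix the root groups of
  simple roots, `W` maps onto `C_2 ^ 2`;
* `extD3_of_odd_out` : `|Out|` odd;
* `extD3_twD4` : the row of `³D₄(q)`.
-/

set_option autoImplicit false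
set_option linter.unusedSectionVars false

namespace Cfsg.Agent.H951.K547

open Cfsg.Agent.H821.K547

universe u v

/-- no outer 2-automorphisms -/
theorem extD3_of_odd_out {S : Type u} [Group S] [Finite S] (h : ¬ 2 ∣ Nat.card (Cfsg.Out S)) : ExtD3 S := by
  intro τ h2 hni
  exfalso
  apply hni
  rw [twoPow_iff] at h2
  obtain ⟨k, hk⟩ := h2
  rw [isInn_iff]
  refine mem_of_pow_odd _ τ h ?_ hk
  have h3 := (MulAut.conj : S →* MulAut S).range.pow_index_mem τ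
  exact h3

theorem rk2_elem (Q : Sylow 2 (Multiplicative (Fin 2 → ZMod 2))) : Rk 2 Q := by
  have hp : IsPGroup 2 (Multiplicative (Fin 2 → ZMod 2)) := IsPGroup.of_card (n := 2) (by
    rw [Nat.card_congr Multiplicative.toAdd, Nat.card_fun, Nat.card_zmod, Nat.card_fin])
  have h : (Q : Subgroup (Multiplicative (Fin 2 → ZMod 2))) = ⊤ :=
    Q.is_maximal' (Q := ⊤) (hp.of_injective (Subgroup.subtype _) (Subgroup.subtype_injective _)) le_top |>.symm
  refine ⟨(Q : Subgroup (Multiplicative (Fin 2 → ZMod 2))).subtype, fun x => ⟨⟨x, ?_⟩, rfl⟩⟩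
  rw [h]
  exact Subgroup.mem_top x

section torus

open CoxeterSystem Cfsg.Agent.ChevalleyStructure.CoxeterGeom Cfsg.Agent.Tits.Roots Cfsg.Agent.Tits.Core
  Cfsg.Agent.Nodes.Reps Cfsg.Agent.Nodes.BNOf Cfsg.Agent.Nodes.Bruhat Cfsg.Agent.Nodes.OppDec
  Cfsg.Agent.KFacts.RgdAut Cfsg.Agent.KFacts.RgdDiag Cfsg.Agent.Nodes.FreeTorus
  Cfsg.Agent.ClosedExc Cfsg.Agent.ClosedExc.Rk Cfsg.Agent.ClosedExc.Prod Cfsg.Agent.ClosedExc.Frame

variable {I W Y : Type*} [Fintype I] [DecidableEq I] [Group W] [Group Y] {M : CoxeterMatrix I}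
  {cs : CoxeterSystem M W} {C : I → I → ℤ} {h : IsCartan M C} {p : ℕ} {T : Subgroup Y} {n : I → Y}
  {X : (I → ℤ) → Subgroup Y}
variable (R : RGD cs h p T n X) [Finite W] [Finite Y]

/-- the homomorphism of `N` onto the Weyl group -/
theorem exists_NP_hom : ∃ f : ↥(NP R ⊤) →* W, Function.Surjective f ∧
    ∀ (m : ↥(NP R ⊤)) (w : W), Rp cs R.nsys w (m : Y) → f m = w := by
  classical
  have hex : ∀ m : ↥(NP R ⊤), ∃ w : W, Rp cs R.nsys w (m : Y) := fun m => ⟨m.2.choose, m.2.choose_spec.2⟩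
  choose fw hfw using hex
  have hsp : ∀ (m : ↥(NP R ⊤)) (w : W), Rp cs R.nsys w (m : Y) → fw m = w := fun m w hw => rp_eq R (hfw m) hw
  refine ⟨{ toFun := fw, map_one' := hsp 1 1 rp_one, map_mul' := fun a b => hsp _ _ ((hfw a).mul (hfw b)) },
    fun w => ?_, hsp⟩
  obtain ⟨g, hg⟩ := exists_rp cs R.nsys w
  exact ⟨⟨g, w, Subgroup.mem_top w, hg⟩, hsp _ _ hg⟩

omit [Finite W] [Finite Y] [Group Y] in
theorem hat_one' (cs : CoxeterSystem M W)
    (hσ : ∀ i j, M ((1 : Equiv.Perm I) i) ((1 : Equiv.Perm I) j) = M i j) (w : W) : hat cs 1 hσ w = w := by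
  have h1 : hat cs 1 hσ = MonoidHom.id W := by
    apply cs.ext_simple
    intro i
    rw [hat_simple]; rfl
  rw [h1]; rfl

/-- **The row, from `N`.** -/
theorem extD3_of_torus (hc : Subgroup.center Y = ⊥) (hpf : commutator Y = ⊤) (hodd : ¬ 2 ∣ (NP R ⊤).index)
    (χ : W →* Multiplicative (Fin 2 → ZMod 2)) (hχ : Function.Surjective χ)
    (hdiag : ∀ τ : MulAut Y, ∃ s : Y, Diag T X (MulAut.conj s * τ) 1) : ExtD3 Y := by
  intro τ h2 hni
  obtain ⟨s, hs⟩ := hdiag τ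
  obtain ⟨f, hf, hfm⟩ := exists_NP_hom R
  have hσ : ∀ i j, M ((1 : Equiv.Perm I) i) ((1 : Equiv.Perm I) j) = M i j := fun i j => rfl
  have hrp : ∀ (w : W) (g : Y), Rp cs R.nsys w g → Rp cs R.nsys w ((MulAut.conj s * τ) g) := by
    intro w g hg
    have h1 := hs.rp' (R := R) hσ hg
    rwa [hat_one'] at h1
  refine gen_inner hc hpf τ h2 hni s (NP R ⊤) hodd ?_ (χ.comp f) (hχ.comp hf) 1 ?_ rk2_elem
  · rintro x ⟨w, hw, hx⟩
    exact ⟨w, hw, hrp w x hx⟩
  · intro m m' e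
    obtain ⟨w, -, hw⟩ := m.2
    rw [inv_one, mul_one, one_mul, MonoidHom.comp_apply, MonoidHom.comp_apply, hfm m w hw, hfm m' w ?_]
    rw [e]
    exact hrp w _ hw

end torus

/-! ### `³D₄(q)` -/

theorem not_two_dvd {T i c : ℕ} (hT : 0 < T) (h : 12 * T * i = T * (4 * c)) (hc : Odd c) : ¬ 2 ∣ i := by
  rintro ⟨j, rfl⟩
  have h1 : T * (12 * (2 * j)) = T * (4 * c) := by rw [← h]; ring
  have h2 := Nat.eq_of_mul_eq_mul_left hT h1
  obtain ⟨k, rfl⟩ := hc
  omega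

theorem mod_four {r n : ℕ} (hr : Odd r) (hn : Even n) : (r ^ n) % 4 = 1 := by
  obtain ⟨m, rfl⟩ := hn
  rw [← two_mul, pow_mul]
  have h1 : (r ^ 2) % 4 = 1 := by
    obtain ⟨k, rfl⟩ := hr
    have : (2 * k + 1) ^ 2 = 4 * (k * k + k) + 1 := by ring
    omega
  rw [Nat.pow_mod, h1, one_pow, Nat.one_mod]

theorem two_mod_four {a : ℕ} (h : a % 4 = 1) : ∃ m, a + 1 = 2 * (2 * m + 1) := ⟨a / 4, by omega⟩

section twD4

open CoxeterSystem Cfsg.Agent.ChevalleyStructure.CoxeterGeom Cfsg.Agent.Tits.Roots Cfsg.Agent.Tits.Core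
  Cfsg.Agent.Tits.Exchange Cfsg.Agent.Nodes.Reps Cfsg.Agent.Nodes.BNOf Cfsg.Agent.Nodes.StabComb
  Cfsg.Agent.Nodes.Bruhat Cfsg.Agent.Nodes.OppDec Cfsg.Agent.Nodes.RGDTwGen Cfsg.Agent.Nodes.RGDChev
  Cfsg.Agent.Nodes.RGDFold Cfsg.Agent.Nodes.RGDFoldSL
open Cfsg.Agent.KFacts.RgdOpp Cfsg.Agent.KFacts.RgdAut Cfsg.Agent.KFacts.RgdDiag Cfsg.Agent.KFacts.RgdRigid
  Cfsg.Agent.KFacts.RgdField Cfsg.Agent.KFacts.RgdTau Cfsg.Agent.KFacts.RgdNodes
open Cfsg.Lie Cfsg.Agent.ChevalleyStructure Cfsg.Agent.ChevalleyStructure.Elts Cfsg.Agent.ChevStructure.FieldMap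
open Cfsg.Agent.KFacts.TwDFour.Out
open Cfsg.Agent.Nodes.RGDTwD4 Cfsg.Agent.Nodes.RGDTwNode.D4
open Cfsg.Agent.H69.OutCount
open Cfsg.Agent.ClosedExc.Frame

theorem card_WG2 : Nat.card CoxeterMatrix.G₂.Group = 12 := S1092.result (⟨2, CoxeterMatrix.G₂⟩, 12) (by simp)

set_option backward.isDefEq.respectTransparency false in
/-- `W(G₂)` maps onto the Klein group -/
theorem exists_chi_G2 {W : Type*} [Group W] (cs : CoxeterSystem CoxeterMatrix.G₂ W) :
    ∃ χ : W →* Multiplicative (Fin 2 → ZMod 2), Function.Surjective χ := by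
  let g : Fin 2 → Multiplicative (Fin 2 → ZMod 2) := fun i => Multiplicative.ofAdd (Pi.single i 1)
  have hg2 : ∀ x : Multiplicative (Fin 2 → ZMod 2), x ^ 2 = 1 := by decide
  have hM : ∀ i j : Fin 2, (g i * g j) ^ (CoxeterMatrix.G₂ i j) = 1 := by
    intro i j
    by_cases hij : i = j
    · subst hij
      rw [CoxeterMatrix.diagonal, pow_one, ← pow_two]
      exact hg2 _
    · have h1 : CoxeterMatrix.G₂ i j = 2 * 3 := by
        revert i j
        decide
      rw [h1, pow_mul, hg2, one_pow]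
  refine ⟨cs.lift ⟨g, hM⟩, fun v => ?_⟩
  have h1 : ∀ i, cs.lift ⟨g, hM⟩ (cs.simple i) = g i := fun i => cs.lift_apply_simple hM i
  refine ⟨cs.simple 0 ^ (v.toAdd 0).val * cs.simple 1 ^ (v.toAdd 1).val, ?_⟩
  rw [map_mul, map_pow, map_pow, h1, h1]
  revert v
  decide

theorem extD3_twD4' {K : Type} [Field K] [Fintype K] {q : ℕ} (hq : IsPrimePow q) (hK : Fintype.card K = q ^ 3)
    (ho : Odd q) : ExtD3 ↥(twistedD4 K q) := by
  classical
  obtain ⟨r, n, hr, hn0, hn⟩ := (isPrimePow_nat_iff _).1 hq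
  have hrr : Fact r.Prime := ⟨hr⟩
  have hch : CharP K r := by
    obtain ⟨p, hp⟩ := CharP.exists K
    obtain ⟨m, h1, h2⟩ := FiniteField.card K p
    have h3 : p ∣ r ^ (n * 3) := by
      rw [pow_mul, hn, ← hK, h2]
      exact dvd_pow_self p m.ne_zero
    have h4 := (Nat.prime_dvd_prime_iff_eq h1 hr).1 (h1.dvd_of_dvd_pow h3)
    rwa [h4] at hp
  have hro : Odd r := by
    rw [← hn] at ho
    exact (Nat.odd_pow_iff hn0.ne').1 ho
  have hfin : Finite ↥(twistedD4 K q) := inferInstance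
  rcases Nat.even_or_odd n with hne | hno
  · have hsim := S1071.result hq hK
    have := hsim.1
    have hna : ¬ ∀ a b : ↥(twistedD4 K q), a * b = b * a := fun h => hsim.2 ⟨⟨fun a b => h a b⟩⟩
    obtain ⟨φ, hφ⟩ := D4Fixed.exists_frob hq hK
    let cs : CoxeterSystem CoxeterMatrix.G₂ CoxeterMatrix.G₂.Group := CoxeterMatrix.G₂.toCoxeterSystem
    have hfW : Finite CoxeterMatrix.G₂.Group := finiteW cs
    have R := Cfsg.Agent.Nodes.RGDTwD4.rgd cs hK hφ r
    obtain ⟨χ, hχ⟩ := exists_chi_G2 cs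
    refine extD3_of_torus (Cfsg.Agent.Nodes.RGDTwD4.rgd cs hK hφ r) (center_of_simple hna) (commutator_of_simple hna)
      ?_ χ hχ ?_
    · have h1 := (NP (Cfsg.Agent.Nodes.RGDTwD4.rgd cs hK hφ r) ⊤).card_mul_index
      rw [card_NP, Subgroup.card_top, card_WG2, S1067.result hq hK, Cfsg.Agent.H69.OutTwD4.card_T hq hK] at h1
      have hq4 : q % 4 = 1 := by rw [← hn]; exact mod_four hro hne
      have hq34 : q ^ 3 % 4 = 1 := by rw [Nat.pow_mod, hq4]
      obtain ⟨a, ha⟩ := two_mod_four hq4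
      obtain ⟨b, hb⟩ := two_mod_four hq34
      have hq2 := hq.two_le
      have hT : 0 < (q ^ 3 - 1) * (q - 1) := by
        have h5 : 2 ^ 3 ≤ q ^ 3 := Nat.pow_le_pow_left hq2 3
        exact Nat.mul_pos (by omega) (by omega)
      refine not_two_dvd (c := q ^ 12 * (2 * a + 1) * (2 * b + 1) * (q ^ 8 + q ^ 4 + 1)) hT (h1.trans ?_) ?_
      · have e1 : q ^ 2 - 1 = (q - 1) * (q + 1) := by
          have := Nat.sq_sub_sq q 1
          rw [one_pow] at this
          rw [this, mul_comm]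
        have e2 : q ^ 6 - 1 = (q ^ 3 - 1) * (q ^ 3 + 1) := by
          have := Nat.sq_sub_sq (q ^ 3) 1
          rw [one_pow, ← pow_mul] at this
          rw [this, mul_comm]
        rw [e1, e2, ha, hb]
        ring
      · refine Odd.mul (Odd.mul (Odd.mul ho.pow ⟨a, rfl⟩) ⟨b, rfl⟩) ?_
        exact ((ho.pow (n := 8)).add_odd (ho.pow (n := 4))).add_one
    · intro τ
      obtain ⟨g, σ, D⟩ := exists_diag_conj (Cfsg.Agent.Nodes.RGDTwD4.rgd cs hK hφ r) (G1_eq_top cs hK hφ) τ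
      have hσ : σ = 1 := by
        apply perm_G2 σ
        intro h3
        have h4 := Diag.card_eq D 0
        rw [h3] at h4
        exact card_ne hφ hK hq.one_lt h4
      subst hσ
      exact ⟨g, D⟩
  · apply extD3_of_odd_out
    have h1 := S2129.result r n (K := K) (by rw [hK, ← hn, ← pow_mul, mul_comm]) hn0
    rw [hn] at h1
    rw [h1]
    obtain ⟨m, rfl⟩ := hno
    omega

end twD4

/-- **`³D₄(q)`, `q` odd** -/
theorem extD3_twD4 {S : Type u} [Group S] [Finite S] {K : Type} [Field K] [Fintype K] {q : ℕ} (hq : IsPrimePow q)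
    (hK : Fintype.card K = q ^ 3) (ho : Odd q) (e : S ≃* Cfsg.Lie.twistedD4 K q) : ExtD3 S :=
  extD3_congr e (extD3_twD4' hq hK ho)

end Cfsg.Agent.H951.K547
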