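import Cfsg.Agent.H951.K547.Klein
import Cfsg.Agent.H951.K547.Tor

/-!
# S4547: `N / T²` for root group data with Weyl group of order 12 (helper951)

`extD3_of_klein` : `N` has odd index, `|W| = 12`, `W` maps onto `C_2 ^ 2`, `T / T ^ 2` has order four and is not centralised
by `N`: then `ExtD3`, for all automorphisms (graph automorphisms included).
-/

set_option autoImplicit false
set_option linter.unusedSectionVars false

namespace Cfsg.Agent.H951.K547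

open Cfsg.Agent.H821.K547

universe u v

open CoxeterSystem Cfsg.Agent.ChevalleyStructure.CoxeterGeom Cfsg.Agent.Tits.Roots Cfsg.Agent.Tits.Core
  Cfsg.Agent.Nodes.Reps Cfsg.Agent.Nodes.BNOf Cfsg.Agent.Nodes.Bruhat Cfsg.Agent.Nodes.OppDec
  Cfsg.Agent.KFacts.RgdAut Cfsg.Agent.KFacts.RgdDiag Cfsg.Agent.Nodes.FreeTorus
  Cfsg.Agent.ClosedExc Cfsg.Agent.ClosedExc.Rk Cfsg.Agent.ClosedExc.Prod Cfsg.Agent.ClosedExc.Frame

/-- the squares of an abelian subgroup -/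
def sqT {Y : Type u} [Group Y] (T : Subgroup Y) (hT : ∀ s ∈ T, ∀ t ∈ T, s * t = t * s) : Subgroup Y where
  carrier := {y | ∃ t ∈ T, y = t ^ 2}
  mul_mem' := by
    rintro _ _ ⟨s, hs, rfl⟩ ⟨t, ht, rfl⟩
    exact ⟨s * t, mul_mem hs ht, ((Commute.mul_pow (hT s hs t ht) 2)).symm⟩
  one_mem' := ⟨1, one_mem _, (one_pow 2).symm⟩
  inv_mem' := by
    rintro _ ⟨s, hs, rfl⟩
    exact ⟨s⁻¹, inv_mem hs, (inv_pow s 2).symm⟩

theorem mem_sqT {Y : Type u} [Group Y] {T : Subgroup Y} {hT : ∀ s ∈ T, ∀ t ∈ T, s * t = t * s} {y : Y} :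
    y ∈ sqT T hT ↔ ∃ t ∈ T, y = t ^ 2 := Iff.rfl

/-- `|T : T²| = |{t | t² = 1}|` -/
theorem relIndex_sqT {Y : Type u} [Group Y] [Finite Y] (T : Subgroup Y) (hT : ∀ s ∈ T, ∀ t ∈ T, s * t = t * s) :
    (sqT T hT).relIndex T = Nat.card {t : T // t ^ 2 = 1} := by
  classical
  let f : T →* T :=
    { toFun := fun t => t ^ 2
      map_one' := one_pow 2
      map_mul' := fun a b => Commute.mul_pow (Subtype.ext (hT a a.2 b b.2)) 2 }
  have hf : ∀ t, f t = t ^ 2 := fun t => rfl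
  have h1 : (sqT T hT).subgroupOf T = f.range := by
    ext x
    rw [Subgroup.mem_subgroupOf, mem_sqT]
    constructor
    · rintro ⟨t, ht, e⟩
      exact ⟨⟨t, ht⟩, Subtype.ext e.symm⟩
    · rintro ⟨t, rfl⟩
      exact ⟨t, t.2, rfl⟩
  have h2 : Nat.card {t : T // t ^ 2 = 1} = Nat.card f.ker := rfl
  rw [Subgroup.relIndex, h1, h2]
  have h3 := f.range.card_mul_index
  have h4 := f.ker.card_mul_index
  rw [Subgroup.index_ker, mul_comm] at h4
  rw [← h4] at h3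
  exact Nat.eq_of_mul_eq_mul_left Nat.card_pos h3

variable {I W Y : Type*} [Fintype I] [DecidableEq I] [Group W] [Group Y] {M : CoxeterMatrix I}
  {cs : CoxeterSystem M W} {C : I → I → ℤ} {h : IsCartan M C} {p : ℕ} {T : Subgroup Y} {n : I → Y}
  {X : (I → ℤ) → Subgroup Y}
variable (R : RGD cs h p T n X) [Finite W] [Finite Y]

theorem extD3_of_klein (hc : Subgroup.center Y = ⊥) (hpf : commutator Y = ⊤)
    (hTc : ∀ s ∈ T, ∀ t ∈ T, s * t = t * s) (hodd : ¬ 2 ∣ (NP R ⊤).index) (hW : Nat.card W = 12)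
    (hT4 : Nat.card {t : T // t ^ 2 = 1} = 4) (χ : W →* Multiplicative (Fin 2 → ZMod 2))
    (hχ : Function.Surjective χ) (hnc : ∃ i, ∃ t ∈ T, n i * t * (n i)⁻¹ * t⁻¹ ∉ sqT T hTc)
    (hdiag : ∀ τ : MulAut Y, ∃ (s : Y) (σ : Equiv.Perm I), Diag T X (MulAut.conj s * τ) σ) : ExtD3 Y := by
  classical
  intro τ h2 hni
  obtain ⟨s, σ, D⟩ := hdiag τ
  obtain ⟨τ', hτ'⟩ : ∃ τ', τ' = MulAut.conj s * τ := ⟨_, rfl⟩
  rw [← hτ'] at D
  obtain ⟨f, hf, hfm⟩ := exists_NP_hom R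
  have hσ := D.matrix R
  have hN : ∀ x ∈ NP R ⊤, τ' x ∈ NP R ⊤ := by
    rintro x ⟨w, -, hx⟩
    exact ⟨_, Subgroup.mem_top _, D.rp' (R := R) hσ hx⟩
  have hN' : ∀ x ∈ NP R ⊤, τ'⁻¹ x ∈ NP R ⊤ := by
    have D' := D.inv
    have hσ' := D'.matrix R
    rintro x ⟨w, -, hx⟩
    exact ⟨_, Subgroup.mem_top _, D'.rp' (R := R) hσ' hx⟩
  have hTN : T ≤ NP R ⊤ := T_le_NP R
  have hNT : ∀ m ∈ NP R ⊤, ∀ t ∈ T, m * t * m⁻¹ ∈ T := by
    rintro m ⟨w, -, hm⟩ t ht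
    exact (rp_conj_mem_T R hm).2 ht
  -- the restriction of `τ'`
  let τN : MulAut ↥(NP R ⊤) :=
    { toFun := fun x => ⟨τ' x, hN x x.2⟩
      invFun := fun x => ⟨τ'⁻¹ x, hN' x x.2⟩
      left_inv := fun x => Subtype.ext (MulAut.inv_apply_self _ τ' x)
      right_inv := fun x => Subtype.ext (MulAut.apply_inv_self _ τ' x)
      map_mul' := fun a b => Subtype.ext (map_mul τ' (a : Y) b) }
  have hτN : ∀ x : ↥(NP R ⊤), ((τN x : ↥(NP R ⊤)) : Y) = τ' x := fun x => rfl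
  -- the normal subgroup
  obtain ⟨B, hB⟩ : ∃ B : Subgroup ↥(NP R ⊤), B = (sqT T hTc).subgroupOf (NP R ⊤) := ⟨_, rfl⟩
  have hBm : ∀ x : ↥(NP R ⊤), x ∈ B ↔ ∃ t ∈ T, (x : Y) = t ^ 2 := by
    intro x
    rw [hB]
    exact Iff.rfl
  have hBn : B.Normal := by
    refine ⟨fun x hx g => ?_⟩
    rw [hBm] at hx ⊢
    obtain ⟨t, ht, e⟩ := hx
    refine ⟨(g : Y) * t * (g : Y)⁻¹, hNT _ g.2 t ht, ?_⟩
    rw [Subgroup.coe_mul, Subgroup.coe_mul, Subgroup.coe_inv, e, pow_two, pow_two]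
    group
  obtain ⟨TN, hTN'⟩ : ∃ TN : Subgroup ↥(NP R ⊤), TN = T.subgroupOf (NP R ⊤) := ⟨_, rfl⟩
  have hTNm : ∀ x : ↥(NP R ⊤), x ∈ TN ↔ (x : Y) ∈ T := by
    intro x
    rw [hTN']
    exact Iff.rfl
  have hBT : B ≤ TN := by
    intro x hx
    obtain ⟨t, ht, e⟩ := (hBm x).1 hx
    rw [hTNm, e]
    exact pow_mem ht 2
  have hTNn : TN.Normal := ⟨fun x hx g => (hTNm _).2 (hNT _ g.2 _ ((hTNm x).1 hx))⟩
  let π : ↥(NP R ⊤) →* ↥(NP R ⊤) ⧸ B := QuotientGroup.mk' B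
  have hπ : Function.Surjective π := QuotientGroup.mk'_surjective B
  have hπ1 : ∀ x, π x = 1 ↔ x ∈ B := fun x => QuotientGroup.eq_one_iff x
  obtain ⟨V, hV⟩ : ∃ V : Subgroup (↥(NP R ⊤) ⧸ B), V = TN.map π := ⟨_, rfl⟩
  have hVn : V.Normal := by rw [hV]; exact hTNn.map π hπ
  have hVm : ∀ x, π x ∈ V ↔ x ∈ TN := by
    intro x
    rw [hV]
    constructor
    · rintro ⟨y, hy, e⟩
      have h1 : y⁻¹ * x ∈ B := by rw [← hπ1, map_mul, map_inv, e, inv_mul_cancel]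
      have h2 := mul_mem hy (hBT h1)
      rwa [mul_inv_cancel_left] at h2
    · intro hx
      exact ⟨x, hx, rfl⟩
  have hfker : f.ker = TN := by
    ext x
    rw [MonoidHom.mem_ker, hTNm]
    constructor
    · intro h1
      obtain ⟨w, -, hw⟩ := x.2
      rw [hfm x w hw] at h1
      rw [h1] at hw
      exact hw.mem_of_one
    · intro h1
      exact hfm x 1 (rp_of_mem h1)
  have hV4 : Nat.card V = 4 := by
    have h1 : V = (π.comp TN.subtype).range := by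
      rw [MonoidHom.range_comp, Subgroup.range_subtype, hV]
    have h2 : (π.comp TN.subtype).ker = B.subgroupOf TN := by
      ext x
      rw [MonoidHom.mem_ker, MonoidHom.comp_apply, hπ1]
      rfl
    rw [h1, ← Subgroup.index_ker, h2]
    show B.relIndex TN = 4
    rw [hB, hTN', Subgroup.relIndex_subgroupOf hTN, relIndex_sqT, hT4]
  have hV2 : ∀ v ∈ V, v ^ 2 = 1 := by
    rw [hV]
    rintro _ ⟨x, hx, rfl⟩
    rw [← map_pow, hπ1, hBm]
    exact ⟨x, (hTNm x).1 hx, rfl⟩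
  have hVi : V.index = 12 := by
    have h1 : V.comap π = TN := by
      ext x
      exact hVm x
    rw [← Subgroup.index_comap_of_surjective V hπ, h1, ← hfker, Subgroup.index_ker, MonoidHom.range_eq_top.2 hf,
      Subgroup.card_top, hW]
  -- the map to the Klein group
  have hBker : B ≤ (χ.comp f).ker := by
    intro x hx
    have h1 := hBT hx
    rw [← hfker, MonoidHom.mem_ker] at h1
    rw [MonoidHom.mem_ker, MonoidHom.comp_apply, h1, map_one]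
  let χ' : ↥(NP R ⊤) ⧸ B →* Multiplicative (Fin 2 → ZMod 2) := QuotientGroup.lift B (χ.comp f) hBker
  have hχ' : ∀ x, χ' (π x) = χ (f x) := fun x => rfl
  have hχs : Function.Surjective χ' := by
    intro v
    obtain ⟨w, rfl⟩ := hχ v
    obtain ⟨x, rfl⟩ := hf w
    exact ⟨π x, hχ' x⟩
  have hVχ : V ≤ χ'.ker := by
    rw [hV]
    rintro _ ⟨x, hx, rfl⟩
    have h1 : x ∈ f.ker := by rw [hfker]; exact hx
    rw [MonoidHom.mem_ker, hχ', MonoidHom.mem_ker.1 h1, map_one]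
  have hncV : ∃ y : ↥(NP R ⊤) ⧸ B, y ^ 2 ∈ V ∧ ∃ v ∈ V, y * v ≠ v * y := by
    obtain ⟨i, t, ht, hnot⟩ := hnc
    have hni : n i ∈ NP R ⊤ := ⟨cs.simple i, Subgroup.mem_top _, rp_simple cs R.nsys i⟩
    refine ⟨π ⟨n i, hni⟩, ?_, π ⟨t, hTN ht⟩, (hVm _).2 ((hTNm _).2 ht), ?_⟩
    · rw [← map_pow, hVm, hTNm]
      have h1 := (rp_simple cs R.nsys i).mul (rp_simple cs R.nsys i)
      rw [cs.simple_mul_simple_self, ← pow_two] at h1
      exact h1.mem_of_one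
    · intro h1
      apply hnot
      have h2 : π (⟨n i, hni⟩ * ⟨t, hTN ht⟩ * (⟨n i, hni⟩ : ↥(NP R ⊤))⁻¹ * (⟨t, hTN ht⟩ : ↥(NP R ⊤))⁻¹) = 1 := by
        rw [map_mul, map_mul, map_mul, map_inv, map_inv, h1, mul_inv_cancel_right, mul_inv_cancel]
      rw [hπ1, hB] at h2
      exact h2
  have hΨ := psiProp_klein V hV4 hV2 hVi χ' hχs hVχ hncV
  -- the automorphism of the quotient
  have hmap : B.map (τN : ↥(NP R ⊤) →* ↥(NP R ⊤)) = B := by
    apply Subgroup.eq_of_le_of_card_ge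
    · rintro _ ⟨x, hx, rfl⟩
      obtain ⟨t, ht, e⟩ := (hBm x).1 hx
      rw [hBm]
      refine ⟨τ' t, (D.tor t).2 ht, ?_⟩
      show τ' x = τ' t ^ 2
      rw [e, map_pow]
    · rw [Subgroup.card_map_of_injective τN.injective]
  let θ : MulAut (↥(NP R ⊤) ⧸ B) := QuotientGroup.congr B B τN hmap
  have hθ : ∀ x, θ (π x) = π (τN x) := fun x => rfl
  refine gen_main2_conj hc hpf τ h2 hni s (NP R ⊤) hodd ?_ π hπ θ ?_ (Stab V) ?_ (fun y => conj_mem_Stab y) hΨ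
  · rw [← hτ']
    exact hN
  · intro m m' e
    rw [hθ]
    congr 1
    apply Subtype.ext
    rw [e, ← hτ']
    rfl
  · intro x
    obtain ⟨y, rfl⟩ := hπ x
    rw [hθ, hVm, hVm, hTNm, hTNm]
    exact D.tor y

end Cfsg.Agent.H951.K547
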